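import Mathlib

/-! Lengths of saturation quotients of lattices over a discrete valuation ring. -/

set_option autoImplicit false
universe u

noncomputable section

namespace Groth.Agent.NeronLib

variable {Λ : Type u} [CommRing Λ]

section rel
variable {V W : Type u} [AddCommGroup V] [Module Λ V] [AddCommGroup W] [Module Λ W]

/-- The length of `B / A` for submodules `A ≤ B`. -/
def relLen (A B : Submodule Λ V) : ℕ∞ := Module.length Λ (B.map A.mkQ)

theorem mem_map_mkQ {A B : Submodule Λ V} (h : A ≤ B) {x : V} : A.mkQ x ∈ B.map A.mkQ ↔ x ∈ B := by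
  refine ⟨?_, fun hx => Submodule.mem_map_of_mem hx⟩
  rintro ⟨b, hb, e⟩
  rw [Submodule.mkQ_apply, Submodule.mkQ_apply, Submodule.Quotient.eq] at e
  have := B.sub_mem hb (h e)
  rwa [sub_sub_cancel] at this

theorem relLen_add {A B C : Submodule Λ V} (hAB : A ≤ B) (hBC : B ≤ C) :
    relLen A C = relLen A B + relLen B C := by
  let g : C.map A.mkQ →ₗ[Λ] C.map B.mkQ :=
    (Submodule.factor hAB).restrict (fun x hx => by
      obtain ⟨c, hc, rfl⟩ := hx
      exact ⟨c, hc, rfl⟩)
  refine Module.length_eq_add_of_exact (Submodule.inclusion (Submodule.map_mono hBC)) g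
    (Submodule.inclusion_injective _) ?_ ?_
  · rintro ⟨_, c, hc, rfl⟩
    exact ⟨⟨A.mkQ c, Submodule.mem_map_of_mem hc⟩, rfl⟩
  · intro z
    obtain ⟨_, c, hc, rfl⟩ := z
    constructor
    · intro hz
      have : B.mkQ c = 0 := congrArg Subtype.val hz
      rw [Submodule.mkQ_apply, Submodule.Quotient.mk_eq_zero] at this
      exact ⟨⟨A.mkQ c, Submodule.mem_map_of_mem this⟩, rfl⟩
    · rintro ⟨⟨_, b, hb, rfl⟩, e⟩
      have e' : A.mkQ b = A.mkQ c := congrArg Subtype.val e
      apply Subtype.ext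
      change Submodule.factor hAB (A.mkQ c) = 0
      rw [← e']
      exact (Submodule.Quotient.mk_eq_zero _).2 hb

theorem relLen_image (f : V →ₗ[Λ] W) (hf : Function.Injective f) {A B : Submodule Λ V} (h : A ≤ B) :
    relLen (A.map f) (B.map f) = relLen A B := by
  let g : B.map A.mkQ →ₗ[Λ] (B.map f).map (A.map f).mkQ :=
    (A.mapQ (A.map f) f (fun x hx => Submodule.mem_map_of_mem hx)).restrict (fun x hx => by
      obtain ⟨b, hb, rfl⟩ := hx
      exact ⟨f b, Submodule.mem_map_of_mem hb, rfl⟩)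
  refine (LinearEquiv.ofBijective g ⟨?_, ?_⟩).length_eq.symm
  · rw [injective_iff_map_eq_zero]
    rintro ⟨_, b, hb, rfl⟩ hz
    have : (A.map f).mkQ (f b) = 0 := congrArg Subtype.val hz
    rw [Submodule.mkQ_apply, Submodule.Quotient.mk_eq_zero] at this
    obtain ⟨a, ha, e⟩ := this
    apply Subtype.ext
    change A.mkQ b = 0
    rw [Submodule.mkQ_apply, Submodule.Quotient.mk_eq_zero, ← hf e]
    exact ha
  · rintro ⟨_, _, ⟨b, hb, rfl⟩, rfl⟩
    exact ⟨⟨A.mkQ b, Submodule.mem_map_of_mem hb⟩, rfl⟩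

theorem relLen_eq_zero {A B : Submodule Λ V} (h : A ≤ B) : relLen A B = 0 ↔ B ≤ A := by
  rw [relLen, Module.length_eq_zero_iff, Submodule.subsingleton_iff_eq_bot]
  constructor
  · intro hb x hx
    have : A.mkQ x ∈ B.map A.mkQ := Submodule.mem_map_of_mem hx
    rw [hb, Submodule.mem_bot, Submodule.mkQ_apply, Submodule.Quotient.mk_eq_zero] at this
    exact this
  · intro hle
    rw [eq_bot_iff, Submodule.map_le_iff_le_comap, Submodule.comap_bot, Submodule.ker_mkQ]
    exact hle

/-- The saturation of a submodule. -/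
def sat [IsDomain Λ] (M : Submodule Λ V) : Submodule Λ V :=
  (Submodule.torsion Λ (V ⧸ M)).comap M.mkQ

theorem mem_sat [IsDomain Λ] {M : Submodule Λ V} {x : V} : x ∈ sat M ↔ ∃ a : Λ, a ≠ 0 ∧ a • x ∈ M := by
  rw [sat, Submodule.mem_comap, Submodule.mem_torsion_iff]
  constructor
  · rintro ⟨⟨a, ha⟩, h⟩
    refine ⟨a, nonZeroDivisors.ne_zero ha, (Submodule.Quotient.mk_eq_zero M).1 ?_⟩
    rw [Submodule.Quotient.mk_smul]
    exact h
  · rintro ⟨a, ha, h⟩
    refine ⟨⟨a, mem_nonZeroDivisors_of_ne_zero ha⟩, ?_⟩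
    change a • M.mkQ x = 0
    rw [← map_smul, Submodule.mkQ_apply, Submodule.Quotient.mk_eq_zero]
    exact h

theorem le_sat [IsDomain Λ] (M : Submodule Λ V) : M ≤ sat M :=
  fun x hx => mem_sat.2 ⟨1, one_ne_zero, by rwa [one_smul]⟩

/-- The defect of saturation of a lattice. -/
def defect [IsDomain Λ] (M : Submodule Λ V) : ℕ∞ := Module.length Λ (Submodule.torsion Λ (V ⧸ M))

theorem relLen_sat [IsDomain Λ] (M : Submodule Λ V) : relLen M (sat M) = defect M := by
  rw [relLen, defect, sat, Submodule.map_comap_eq_of_surjective M.mkQ_surjective]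

theorem defect_eq_zero_iff [IsDomain Λ] (M : Submodule Λ V) : defect M = 0 ↔ sat M ≤ M := by
  rw [← relLen_sat, relLen_eq_zero (le_sat M)]

theorem defect_ne_top [IsDomain Λ] [IsDiscreteValuationRing Λ] [Module.Finite Λ V] (M : Submodule Λ V) :
    defect M ≠ ⊤ := by
  obtain ⟨a, ha, hann⟩ : ∃ a : Λ, a ≠ 0 ∧ ∀ x : Submodule.torsion Λ (V ⧸ M), a • x = 0 := by
    obtain ⟨a, ha⟩ := Submodule.annihilator_top_inter_nonZeroDivisors (R := Λ)
      (M := Submodule.torsion Λ (V ⧸ M)) Submodule.torsion_isTorsion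
    exact ⟨a, nonZeroDivisors.ne_zero ha.2, fun x => Submodule.mem_annihilator.1 ha.1 x trivial⟩
  let Q := Λ ⧸ Ideal.span {a}
  have hQ : IsFiniteLength Λ Q := isFiniteLength_quotient_span_singleton Λ (mem_nonZeroDivisors_of_ne_zero ha)
  obtain ⟨hnQ, haQ⟩ := isFiniteLength_iff_isNoetherian_isArtinian.1 hQ
  obtain ⟨d, g, hg⟩ := Module.Finite.exists_fin' Λ (Submodule.torsion Λ (V ⧸ M))
  let q : (Fin d → Λ) →ₗ[Λ] (Fin d → Q) := LinearMap.pi fun i => (Ideal.span {a}).mkQ ∘ₗ LinearMap.proj i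
  have hqs : Function.Surjective q := fun w => by
    choose v hv using fun i => Submodule.mkQ_surjective (Ideal.span {a}) (w i)
    exact ⟨v, funext hv⟩
  have hker : LinearMap.ker q ≤ LinearMap.ker g := by
    intro v hv
    have hv' : ∀ i, ∃ c, c * a = v i := fun i => by
      have := congrFun (LinearMap.mem_ker.1 hv) i
      exact Ideal.mem_span_singleton'.1 ((Submodule.Quotient.mk_eq_zero _).1 this)
    choose c hc using hv'
    have : v = a • c := funext fun i => by rw [Pi.smul_apply, smul_eq_mul, mul_comm, hc]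
    rw [LinearMap.mem_ker, this, map_smul, hann]
  let h : (Fin d → Q) →ₗ[Λ] Submodule.torsion Λ (V ⧸ M) :=
    (LinearMap.ker q).liftQ g hker ∘ₗ (q.quotKerEquivOfSurjective hqs).symm.toLinearMap
  have hs : Function.Surjective h := by
    intro y
    obtain ⟨v, rfl⟩ := hg y
    refine ⟨q v, ?_⟩
    change (LinearMap.ker q).liftQ g hker ((q.quotKerEquivOfSurjective hqs).symm (q v)) = g v
    rw [show (q.quotKerEquivOfSurjective hqs).symm (q v) = Submodule.Quotient.mk v from
      (q.quotKerEquivOfSurjective hqs).symm_apply_eq.2 rfl]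
    rfl
  refine ne_top_of_le_ne_top ?_ (Module.length_le_of_surjective h hs)
  exact Module.length_ne_top

end rel

section drop

variable [IsDomain Λ] [IsDiscreteValuationRing Λ]
variable {F V : Type u} [AddCommGroup F] [Module Λ F] [Module.Finite Λ F]
  [AddCommGroup V] [Module Λ V] [Module.IsTorsionFree Λ V] [Module.Finite Λ V]

/-- The abstract inequality behind Néron's blow-up: the defect strictly drops. -/
theorem defect_lt (π : Λ) (hπ : π ≠ 0) (ι : F →ₗ[Λ] V) (hι : Function.Injective ι)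
    (P : V →ₗ[Λ] V) (hPι : ∀ x, P (ι x) = ι x) (hπP : ∀ z, ∃ x, ι x = π • P z)
    (M : Submodule Λ F) (M' : Submodule Λ V) (hW : ∀ z, z - P z ∈ M')
    (hsat : ∀ z ∈ M', ∃ a : Λ, a ≠ 0 ∧ a • P z ∈ M.map ι)
    (hdiv : ∀ x ∈ M, ∃ z ∈ M', π • P z = ι x)
    (hstrict : ∃ x ∈ M, (∀ m ∈ M, x ≠ π • m) ∧ ∃ z ∈ M', π • π • P z = ι x) :
    defect M' < defect M := by
  let X : Submodule Λ V := M.map ι
  let Y : Submodule Λ V := X.comap (LinearMap.lsmul Λ V π)
  let M0 : Submodule Λ V := M'.map P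
  let S : Submodule Λ V := sat X
  have hPX : ∀ z ∈ X, P z = z := by rintro _ ⟨x, -, rfl⟩; exact hPι x
  have hPS : ∀ z ∈ S, P z = z := fun z hz => by
    obtain ⟨a, ha, haz⟩ := mem_sat.1 hz
    have := hPX _ haz
    rw [map_smul] at this
    exact smul_right_injective V ha this
  have hXY : X ≤ Y := fun z hz => X.smul_mem π hz
  have hYM : Y ≤ M0 := fun z hz => by
    obtain ⟨x, hx, e⟩ := (hz : π • z ∈ X)
    obtain ⟨z', hz', e'⟩ := hdiv x hx
    refine ⟨z', hz', smul_right_injective V hπ ?_⟩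
    exact e'.trans e
  have hMS : M0 ≤ S := by
    rintro _ ⟨z, hz, rfl⟩
    exact mem_sat.2 (hsat z hz)
  have hXM : X ≤ M0 := hXY.trans hYM
  have hsatle : (sat M).map ι ≤ S := by
    rintro _ ⟨x, hx, rfl⟩
    obtain ⟨a, ha, hax⟩ := mem_sat.1 hx
    exact mem_sat.2 ⟨a, ha, by rw [← map_smul]; exact Submodule.mem_map_of_mem hax⟩
  have hfinS : relLen X S ≠ ⊤ := by rw [relLen_sat]; exact defect_ne_top X
  let p : V →ₗ[Λ] V := LinearMap.lsmul Λ V π
  have hp : Function.Injective p := smul_right_injective V hπ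
  let q := relLen (X.map p) X
  have hπX : X.map p ≤ X := by rintro _ ⟨z, hz, rfl⟩; exact X.smul_mem π hz
  have hπS : S.map p ≤ S := by rintro _ ⟨z, hz, rfl⟩; exact S.smul_mem π hz
  -- `Y / X ≅ X / π X`
  have hYX : relLen X Y = q := by
    have hY : Y.map p = X := by
      refine le_antisymm (Submodule.map_comap_le _ _) ?_
      rintro _ ⟨x, hx, rfl⟩
      obtain ⟨z, hz, e⟩ := hdiv x hx
      exact ⟨P z, show π • P z ∈ X by rw [e]; exact Submodule.mem_map_of_mem hx, e⟩
    rw [← relLen_image p hp hXY, hY]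
  -- `S / π S` and `X / π X` have the same length
  have hq : relLen (S.map p) S = q := by
    have h1 := relLen_add (Submodule.map_mono (f := p) (le_sat X)) hπS
    have h2 := relLen_add hπX (le_sat X)
    rw [relLen_image p hp (le_sat X)] at h1
    have h3 : relLen X S + relLen (S.map p) S = relLen X S + q := by
      rw [← h1, h2, add_comm]
    exact WithTop.add_left_cancel hfinS h3
  have hπsat : S.map p ≤ (sat M).map ι := by
    rintro _ ⟨z, hz, rfl⟩
    obtain ⟨x, hx⟩ := hπP z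
    rw [hPS z hz] at hx
    obtain ⟨a, ha, haz⟩ := mem_sat.1 hz
    refine ⟨x, mem_sat.2 ⟨a, ha, ?_⟩, hx⟩
    obtain ⟨m, hm, e⟩ := haz
    have : a • x = π • m := hι (by rw [map_smul, map_smul, hx, e, smul_comm])
    rw [this]
    exact M.smul_mem π hm
  have hupper : relLen X S ≤ defect M + q := by
    have h1 := relLen_add (Submodule.map_mono (f := ι) (le_sat M)) hsatle
    rw [relLen_image ι hι (le_sat M), relLen_sat M] at h1
    have h2 := relLen_add hπsat hsatle
    rw [hq] at h2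
    refine h1.le.trans ?_
    refine add_le_add le_rfl ?_
    rw [h2]
    exact le_add_self
  have hlower : relLen M0 S + (1 + q) ≤ relLen X S := by
    rw [relLen_add hXM hMS, relLen_add hXY hYM, hYX, add_comm (relLen M0 S), add_comm q]
    refine add_le_add (add_le_add ?_ le_rfl) le_rfl
    refine Order.one_le_iff_pos.2 (pos_iff_ne_zero.2 fun h0 => ?_)
    rw [relLen_eq_zero hYM] at h0
    obtain ⟨x, hx, hne, z, hz, e⟩ := hstrict
    obtain ⟨m, hm, em⟩ := (h0 (Submodule.mem_map_of_mem hz) : π • P z ∈ X)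
    exact hne m hm (hι (by rw [← e, map_smul, em]; rfl))
  have hδ : defect M' ≤ relLen M0 S := by
    let g : S.map M0.mkQ →ₗ[Λ] V ⧸ M' :=
      (M0.mapQ M' LinearMap.id (fun z hz => by
        obtain ⟨w, hw, rfl⟩ := hz
        simpa using M'.sub_mem hw (hW w))).domRestrict _
    have hrange : (Submodule.torsion Λ (V ⧸ M')) ≤ LinearMap.range g := by
      intro w hw
      obtain ⟨v, rfl⟩ := M'.mkQ_surjective w
      obtain ⟨a, ha, hav⟩ := mem_sat.1 (show v ∈ sat M' from hw)
      obtain ⟨b, hb, hbv⟩ := hsat _ hav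
      refine ⟨⟨M0.mkQ (P v), Submodule.mem_map_of_mem (mem_sat.2 ⟨b * a, mul_ne_zero hb ha, ?_⟩)⟩, ?_⟩
      · rw [map_smul] at hbv
        rwa [mul_smul]
      · change M'.mkQ (P v) = M'.mkQ v
        rw [Submodule.mkQ_apply, Submodule.mkQ_apply, Submodule.Quotient.eq]
        simpa using M'.neg_mem (hW v)
    refine le_trans ?_ (Module.length_le_of_surjective g.rangeRestrict g.surjective_rangeRestrict)
    exact Module.length_le_of_injective (Submodule.inclusion hrange) (Submodule.inclusion_injective _)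
  have hS0fin : relLen M0 S ≠ ⊤ := fun h => hfinS (by rw [relLen_add hXM hMS, h, add_top])
  have hqfin : q ≠ ⊤ := fun h => hfinS (by
    rw [relLen_add hXM hMS, relLen_add hXY hYM, hYX, h, top_add, top_add])
  have hMfin : defect M ≠ ⊤ := defect_ne_top M
  have h4 := hlower.trans hupper
  refine hδ.trans_lt ?_
  obtain ⟨a, ha⟩ := WithTop.ne_top_iff_exists.1 hS0fin
  obtain ⟨b, hb⟩ := WithTop.ne_top_iff_exists.1 hqfin
  obtain ⟨c, hc⟩ := WithTop.ne_top_iff_exists.1 hMfin
  rw [← ha, ← hb, ← hc] at h4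
  rw [← ha, ← hc]
  change ((a : ℕ∞) + (1 + (b : ℕ∞)) ≤ (c : ℕ∞) + (b : ℕ∞)) at h4
  change (a : ℕ∞) < (c : ℕ∞)
  norm_cast at h4 ⊢
  omega

end drop

end Groth.Agent.NeronLib
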