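import Mathlib
import Groth.Agent.NeronLib.Lattice
import Groth.Agent.JacobianLib.Basic
import Groth.Agent.FieldExtLib.Separable

/-! Gradients of relations at a point with values in `Λ`. -/

set_option autoImplicit false
universe u

noncomputable section

namespace Groth.Agent.NeronLib

open MvPolynomial

variable {R Λ : Type u} [CommRing R] [CommRing Λ] [Algebra R Λ] {n : ℕ}
  (φ : MvPolynomial (Fin n) R →ₐ[R] Λ)

/-- The gradient of `f` at the point `φ`. -/
def grad (f : MvPolynomial (Fin n) R) : Fin n → Λ := fun l => φ (pderiv l f)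

theorem grad_add (f g : MvPolynomial (Fin n) R) : grad φ (f + g) = grad φ f + grad φ g :=
  funext fun l => by simp [grad]

theorem grad_zero : grad φ 0 = 0 := funext fun l => by simp [grad]

theorem grad_sum {ι : Type*} (s : Finset ι) (f : ι → MvPolynomial (Fin n) R) :
    grad φ (∑ i ∈ s, f i) = ∑ i ∈ s, grad φ (f i) :=
  funext fun l => by simp [grad, Finset.sum_apply]

theorem grad_sub (f g : MvPolynomial (Fin n) R) : grad φ (f - g) = grad φ f - grad φ g :=
  funext fun l => by simp [grad]

theorem grad_mul (f g : MvPolynomial (Fin n) R) :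
    grad φ (f * g) = φ f • grad φ g + φ g • grad φ f :=
  funext fun l => by simp [grad, pderiv_mul]

theorem grad_C (c : R) : grad φ (C c) = 0 := funext fun l => by simp [grad]

theorem grad_C_mul (c : R) (f : MvPolynomial (Fin n) R) :
    grad φ (C c * f) = algebraMap R Λ c • grad φ f := by
  rw [grad_mul, grad_C, smul_zero, add_zero, ← MvPolynomial.algebraMap_eq, AlgHom.commutes]

theorem grad_X (i : Fin n) : grad φ (X i) = Pi.single i 1 := funext fun l => by
  by_cases h : l = i
  · subst h; simp [grad]
  · simp [grad, pderiv_X_of_ne (Ne.symm h), Pi.single_eq_of_ne h]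

/-- The span of the gradients of the relations. -/
def jac : Submodule Λ (Fin n → Λ) :=
  Submodule.span Λ (grad φ '' (RingHom.ker φ : Set (MvPolynomial (Fin n) R)))

theorem grad_mem_jac {f : MvPolynomial (Fin n) R} (hf : φ f = 0) : grad φ f ∈ jac φ :=
  Submodule.subset_span ⟨f, hf, rfl⟩

/-- Relations spanning the Jacobian module, of minimal number. -/
theorem exists_minimal_gens [IsNoetherianRing R] :
    ∃ (c : ℕ) (f : Fin c → MvPolynomial (Fin n) R), (∀ i, φ (f i) = 0) ∧
      jac φ = Submodule.span Λ (Set.range fun i => grad φ (f i)) ∧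
      ∀ (c' : ℕ) (f' : Fin c' → MvPolynomial (Fin n) R), (∀ i, φ (f' i) = 0) →
        jac φ = Submodule.span Λ (Set.range fun i => grad φ (f' i)) → c ≤ c' := by
  classical
  have hex : ∃ c, ∃ f : Fin c → MvPolynomial (Fin n) R, (∀ i, φ (f i) = 0) ∧
      jac φ = Submodule.span Λ (Set.range fun i => grad φ (f i)) := by
    obtain ⟨c, f, hf⟩ := Submodule.fg_iff_exists_fin_generating_family.1 (IsNoetherian.noetherian (RingHom.ker φ))
    have hfk : ∀ i, φ (f i) = 0 := fun i => (hf ▸ Submodule.subset_span ⟨i, rfl⟩ : f i ∈ RingHom.ker φ)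
    refine ⟨c, f, hfk, le_antisymm (Submodule.span_le.2 ?_) (Submodule.span_le.2 ?_)⟩
    · rintro _ ⟨x, hx, rfl⟩
      have hx' : x ∈ Ideal.span (Set.range f) := by
        rw [show Ideal.span (Set.range f) = RingHom.ker φ from hf]; exact hx
      obtain ⟨a, rfl⟩ := Ideal.mem_span_range_iff_exists_fun.1 hx'
      rw [grad_sum]
      refine Submodule.sum_mem _ fun i _ => ?_
      rw [grad_mul, hfk, zero_smul, add_zero]
      exact Submodule.smul_mem _ _ (Submodule.subset_span ⟨i, rfl⟩)
    · rintro _ ⟨i, rfl⟩
      exact grad_mem_jac φ (hfk i)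
  obtain ⟨f, hf, hspan⟩ := Nat.find_spec hex
  exact ⟨Nat.find hex, f, hf, hspan, fun c' f' h1 h2 => Nat.find_min' hex ⟨f', h1, h2⟩⟩

/-- Derivations from coefficient vectors. -/
def vecDer (w : Fin n → MvPolynomial (Fin n) R) :
    Derivation R (MvPolynomial (Fin n) R) (MvPolynomial (Fin n) R) :=
  mkDerivation R w

theorem vecDer_apply (w : Fin n → MvPolynomial (Fin n) R) (f : MvPolynomial (Fin n) R) :
    vecDer w f = ∑ l, w l * pderiv l f := by
  induction f using MvPolynomial.induction_on with
  | C c => simp [vecDer]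
  | add p q hp hq => simp [hp, hq, mul_add, Finset.sum_add_distrib]
  | mul_X p i hp =>
    rw [Derivation.leibniz, hp, show vecDer w (X i) = w i from mkDerivation_X R w i]
    simp only [pderiv_mul, mul_add, Finset.sum_add_distrib, smul_eq_mul, Finset.mul_sum]
    rw [add_comm]
    congr 1
    · exact Finset.sum_congr rfl fun l _ => by ring
    · rw [Finset.sum_eq_single i]
      · rw [pderiv_X_self]; ring
      · intro l _ hl
        rw [pderiv_X_of_ne (Ne.symm hl)]; ring
      · simp

theorem D_eq_sum (f : MvPolynomial (Fin n) R) :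
    KaehlerDifferential.D R (MvPolynomial (Fin n) R) f =
      ∑ l, pderiv l f • KaehlerDifferential.D R (MvPolynomial (Fin n) R) (X l) := by
  induction f using MvPolynomial.induction_on with
  | C c => rw [← MvPolynomial.algebraMap_eq, Derivation.map_algebraMap]; simp
  | add p q hp hq => simp [hp, hq, add_smul, Finset.sum_add_distrib]
  | mul_X p i hp =>
    rw [Derivation.leibniz, hp]
    simp only [pderiv_mul, add_smul, Finset.sum_add_distrib, Finset.smul_sum, smul_smul]
    rw [add_comm]
    congr 1
    · exact Finset.sum_congr rfl fun l _ => by rw [mul_comm]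
    · rw [Finset.sum_eq_single i]
      · rw [pderiv_X_self, mul_one]
      · intro l _ hl
        rw [pderiv_X_of_ne (Ne.symm hl), mul_zero, zero_smul]
      · simp

/-- Independent vectors over a field have a coordinate left inverse. -/
theorem exists_left_inverse {κ : Type u} [Field κ] {c : ℕ} (w : Fin c → Fin n → κ)
    (hli : LinearIndependent κ w) :
    ∃ e : Fin c → Fin n → κ, ∀ i k, ∑ l, e k l * w i l = if i = k then 1 else 0 := by
  classical
  have hinj : LinearMap.ker (Fintype.linearCombination κ w) = ⊥ :=
    LinearMap.ker_eq_bot.2 hli.fintypeLinearCombination_injective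
  obtain ⟨g, hg⟩ := LinearMap.exists_leftInverse_of_injective _ hinj
  refine ⟨fun k l => g (Pi.single l 1) k, fun i k => ?_⟩
  have h1 := congrFun (LinearMap.congr_fun hg (Pi.single i 1)) k
  simp only [LinearMap.comp_apply, Fintype.linearCombination_apply_single, one_smul, LinearMap.id_apply] at h1
  have h2 : g (w i) = ∑ l, w i l • g (Pi.single l 1) := by
    conv_lhs => rw [pi_eq_sum_univ' (w i)]
    simp
  rw [h2, Finset.sum_apply] at h1
  simp only [Pi.smul_apply, smul_eq_mul] at h1
  rw [← Finset.sum_congr rfl (fun l _ => mul_comm (g (Pi.single l 1) k) (w i l))] at h1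
  rw [h1]
  simp [Pi.single_apply, eq_comm]

end Groth.Agent.NeronLib
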