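import Mathlib
import Groth.Agent.NeronLib.Grad

/-! A separable point has independent local equations. -/

set_option autoImplicit false
universe u

noncomputable section

namespace Groth.Agent.NeronLib

open MvPolynomial IsLocalRing

instance ker_isPrime_field {S : Type u} [CommRing S] {F : Type u} [Field F] (ψ : S →+* F) :
    (RingHom.ker ψ).IsPrime := RingHom.ker_isPrime _

/-- The residue field of the kernel maps to the target field. -/
def residueToField {S : Type u} [CommRing S] {F : Type u} [Field F] (ψ : S →+* F) :
    (RingHom.ker ψ).ResidueField →+* F :=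
  Ideal.ResidueField.lift (RingHom.ker ψ) ψ le_rfl (fun s hs => by
    simp only [Submonoid.mem_comap, IsUnit.mem_submonoid_iff, isUnit_iff_ne_zero]
    exact hs)

theorem residueToField_algebraMap {S : Type u} [CommRing S] {F : Type u} [Field F] (ψ : S →+* F) (x : S) :
    residueToField ψ (algebraMap S (RingHom.ker ψ).ResidueField x) = ψ x :=
  Ideal.ResidueField.lift_algebraMap _ _ _ _ x

/-- Residue fields of points of a geometrically reduced field are formally smooth. -/
theorem formallySmooth_residueField_ker {k S F : Type u} [Field k] [CommRing S] [Algebra k S] [Field F] [Algebra k F]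
    [hF : Algebra.IsGeometricallyReduced k F] (ψ : S →ₐ[k] F) :
    Algebra.FormallySmooth k (RingHom.ker ψ.toRingHom).ResidueField := by
  refine FieldExtLib.formallySmooth_of_isGeometricallyReduced ?_
  refine Algebra.IsGeometricallyReduced.of_injective
    { toRingHom := residueToField ψ.toRingHom
      commutes' := fun c => ?_ } (residueToField ψ.toRingHom).injective
  change residueToField ψ.toRingHom (algebraMap k _ c) = _
  rw [IsScalarTower.algebraMap_apply k S (RingHom.ker ψ.toRingHom).ResidueField, residueToField_algebraMap]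
  exact ψ.commutes c

variable {R Λ : Type u} [CommRing R] [IsLocalRing R] [IsNoetherianRing R] [CommRing Λ] [IsLocalRing Λ]
  [Algebra R Λ] [IsLocalHom (algebraMap R Λ)]
  [Algebra.IsGeometricallyReduced (ResidueField R) (ResidueField Λ)]

theorem exists_conormal (π : R) (hπ : maximalIdeal R = Ideal.span {π}) {n : ℕ}
    (φ : MvPolynomial (Fin n) R →ₐ[R] Λ) :
    ∃ (r : ℕ) (g : Fin r → MvPolynomial (Fin n) R) (H : Fin r → Fin n → Λ),
      (∀ j, φ (g j) ∈ maximalIdeal Λ) ∧
      (∀ k j, ∑ l, H k l * grad φ (g j) l = if k = j then 1 else 0) ∧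
      ∀ f, φ f ∈ maximalIdeal Λ → ∃ (s a : MvPolynomial (Fin n) R) (b : Fin r → MvPolynomial (Fin n) R),
        φ s ∉ maximalIdeal Λ ∧ s * f = C π * a + ∑ j, b j * g j := by
  classical
  let k := ResidueField R
  let Pb := MvPolynomial (Fin n) k
  let ρ : MvPolynomial (Fin n) R →+* Pb := MvPolynomial.map (residue R)
  let φb : Pb →ₐ[k] ResidueField Λ := MvPolynomial.aeval fun i => residue Λ (φ (X i))
  have hρ : ∀ f, φb (ρ f) = residue Λ (φ f) := by
    have : φb.toRingHom.comp ρ = (residue Λ).comp φ.toRingHom := by
      refine MvPolynomial.ringHom_ext (fun c => ?_) (fun i => ?_)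
      · change φb (ρ (C c)) = residue Λ (φ (C c))
        rw [show ρ (C c) = C (residue R c) from map_C _ _]
        rw [← MvPolynomial.algebraMap_eq, AlgHom.commutes, ← MvPolynomial.algebraMap_eq, AlgHom.commutes]
        rfl
      · change φb (ρ (X i)) = residue Λ (φ (X i))
        rw [show ρ (X i) = X i from map_X _ _]
        exact MvPolynomial.aeval_X _ _
    exact fun f => RingHom.congr_fun this f
  let q : Ideal Pb := RingHom.ker φb.toRingHom
  have hq : ∀ f, ρ f ∈ q ↔ φ f ∈ maximalIdeal Λ := fun f => by
    rw [← residue_eq_zero_iff, ← hρ]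
    rfl
  have : q.IsPrime := RingHom.ker_isPrime _
  have hfs : Algebra.FormallySmooth k q.ResidueField := formallySmooth_residueField_ker φb
  have : IsScalarTower k (Localization.AtPrime q) q.ResidueField := IsScalarTower.of_algebraMap_eq fun c => rfl
  obtain ⟨r, fb, D, hfq, hspan, hdet⟩ := (JacobianLib.iff_minor (R := k) q q le_rfl (S := q.ResidueField)
    Ideal.Quotient.mk_surjective (by
      refine (IsLocalRing.ker_residue (R := Localization.AtPrime q)).trans ?_
      exact (IsLocalization.AtPrime.map_eq_maximalIdeal q (Localization.AtPrime q)).symm)).1 hfs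
  choose g hg using fun i => MvPolynomial.map_surjective (residue R) residue_surjective (fb i)
  choose w hw using fun (i : Fin r) (l : Fin n) => MvPolynomial.map_surjective (residue R) residue_surjective (D i (X l))
  have hρd : ∀ i j, ρ (vecDer (w j) (g i)) = D j (fb i) := by
    intro i j
    have h1 : D j = vecDer (fun l => D j (X l)) := MvPolynomial.derivation_ext fun l => by
      rw [vecDer]; exact (mkDerivation_X k (fun l => D j (X l)) l).symm
    conv_rhs => rw [h1, vecDer_apply, ← hg i]
    rw [vecDer_apply, map_sum]
    refine Finset.sum_congr rfl fun l _ => ?_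
    rw [map_mul, show ρ (w j l) = D j (X l) from hw j l, pderiv_map]
  let Z : Matrix (Fin r) (Fin r) Λ := Matrix.of fun i j => φ (vecDer (w j) (g i))
  have hZ : IsUnit Z.det := by
    by_contra hnu
    apply hdet
    have h1 : residue Λ Z.det = 0 := (residue_eq_zero_iff _).2 hnu
    change φb (Matrix.det _) = 0
    rw [← h1, RingHom.map_det, AlgHom.map_det]
    congr 1
    ext i j
    simp only [AlgHom.mapMatrix_apply, RingHom.mapMatrix_apply, Matrix.map_apply, Matrix.of_apply, Z, ← hρ, hρd]
  refine ⟨r, g, fun k' l => ∑ j, Z⁻¹ j k' * φ (w j l), fun i => ?_, fun k' i => ?_, fun f hf => ?_⟩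
  · rw [← hq]
    change MvPolynomial.map (residue R) (g i) ∈ q
    rw [hg]
    exact hfq i
  · have h2 : (Z * Z⁻¹) i k' = if k' = i then 1 else 0 := by
      rw [Matrix.mul_nonsing_inv _ hZ, Matrix.one_apply]
      exact if_congr eq_comm rfl rfl
    rw [← h2, Matrix.mul_apply]
    simp only [Finset.sum_mul]
    rw [Finset.sum_comm]
    refine Finset.sum_congr rfl fun j _ => ?_
    simp only [Z, Matrix.of_apply, vecDer_apply, map_sum, map_mul, grad, Finset.sum_mul]
    exact Finset.sum_congr rfl fun l _ => by ring
  · have h1 : algebraMap Pb (Localization.AtPrime q) (ρ f) ∈ (Ideal.span (Set.range fb)).map (algebraMap Pb (Localization.AtPrime q)) := by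
      rw [Ideal.map_span, ← Set.range_comp]
      have h2 := Ideal.mem_map_of_mem (algebraMap Pb (Localization.AtPrime q)) ((hq f).2 hf)
      rw [hspan] at h2
      exact h2
    obtain ⟨⟨⟨y, hy⟩, ⟨sb, hsb⟩⟩, e⟩ := (IsLocalization.mem_map_algebraMap_iff q.primeCompl _).1 h1
    simp only at e
    rw [← map_mul, IsLocalization.eq_iff_exists q.primeCompl] at e
    obtain ⟨⟨tb, htb⟩, e⟩ := e
    obtain ⟨cb, hcb⟩ := Ideal.mem_span_range_iff_exists_fun.1 hy
    obtain ⟨s, hs⟩ := MvPolynomial.map_surjective (residue R) residue_surjective (tb * sb)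
    choose b hb using fun i => MvPolynomial.map_surjective (residue R) residue_surjective (tb * cb i)
    have hker : s * f - ∑ j, b j * g j ∈ RingHom.ker ρ := by
      rw [RingHom.mem_ker, map_sub, sub_eq_zero, map_mul, map_sum]
      simp only [map_mul, show ρ s = tb * sb from hs, show ∀ i, ρ (b i) = tb * cb i from hb,
        show ∀ i, ρ (g i) = fb i from hg]
      simp only at e
      rw [mul_assoc, mul_comm sb, e, ← hcb, Finset.mul_sum]
      exact Finset.sum_congr rfl fun i _ => by ring
    rw [show ρ = MvPolynomial.map (residue R) from rfl, MvPolynomial.ker_map, ker_residue, hπ,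
      Ideal.map_span, Set.image_singleton, Ideal.mem_span_singleton] at hker
    obtain ⟨a, ha⟩ := hker
    refine ⟨s, a, b, ?_, by rw [← ha]; ring⟩
    intro hsm
    have := (hq s).2 hsm
    rw [show ρ s = tb * sb from hs] at this
    exact (‹q.IsPrime›.mem_or_mem this).elim htb hsb

end Groth.Agent.NeronLib
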