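import Mathlib
import Groth.Agent.NeronLib.Conormal

/-! Minimal relations are either independent modulo the maximal ideal or have a dependency. -/

set_option autoImplicit false
universe u

noncomputable section

namespace Groth.Agent.NeronLib

open MvPolynomial IsLocalRing

variable {R Λ : Type u} [CommRing R] [CommRing Λ] [IsLocalRing Λ] [Algebra R Λ] {n : ℕ}
  (φ : MvPolynomial (Fin n) R →ₐ[R] Λ)

theorem dichotomy {c : ℕ} (f : Fin c → MvPolynomial (Fin n) R) :
    (∃ e : Fin c → Fin n → MvPolynomial (Fin n) R,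
        IsUnit (Matrix.det (Matrix.of fun i k => φ (vecDer (e k) (f i))))) ∨
      ∃ a : Fin c → MvPolynomial (Fin n) R, (∃ i, φ (a i) ∉ maximalIdeal Λ) ∧
        ∀ l, (∑ i, φ (a i) • grad φ (f i)) l ∈ maximalIdeal Λ := by
  classical
  let ψ : MvPolynomial (Fin n) R →+* ResidueField Λ := (residue Λ).comp φ.toRingHom
  let p : Ideal (MvPolynomial (Fin n) R) := RingHom.ker ψ
  let κ := p.ResidueField
  let j : κ →+* ResidueField Λ := residueToField ψ
  let ev : MvPolynomial (Fin n) R →+* κ := algebraMap _ κ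
  have hj : ∀ x, j (ev x) = residue Λ (φ x) := fun x => residueToField_algebraMap ψ x
  have hev : ∀ x, ev x = 0 ↔ φ x ∈ maximalIdeal Λ := fun x => by
    rw [← residue_eq_zero_iff, ← hj, map_eq_zero_iff j j.injective]
  -- clearing denominators
  have hclear : ∀ {ι : Type} [Finite ι] (z : ι → κ), ∃ (s : MvPolynomial (Fin n) R)
      (a : ι → MvPolynomial (Fin n) R), ev s ≠ 0 ∧ ∀ i, ev (a i) = ev s * z i := by
    intro ι _ z
    obtain ⟨⟨s, hs⟩, hcs⟩ :=
      IsLocalization.exist_integer_multiples_of_finite (nonZeroDivisors (MvPolynomial (Fin n) R ⧸ p)) z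
    choose d hd using hcs
    choose e he using fun i => Ideal.Quotient.mk_surjective (d i)
    obtain ⟨s, rfl⟩ := Ideal.Quotient.mk_surjective s
    refine ⟨s, e, ?_, fun i => ?_⟩
    · change algebraMap _ κ s ≠ 0
      rw [IsScalarTower.algebraMap_apply _ (MvPolynomial (Fin n) R ⧸ p) κ]
      exact IsFractionRing.to_map_ne_zero_of_mem_nonZeroDivisors hs
    · change algebraMap _ κ (e i) = algebraMap _ κ s * z i
      rw [IsScalarTower.algebraMap_apply _ (MvPolynomial (Fin n) R ⧸ p) κ,
        IsScalarTower.algebraMap_apply _ (MvPolynomial (Fin n) R ⧸ p) κ s, Ideal.Quotient.algebraMap_eq, he]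
      exact (hd i).trans (Algebra.smul_def _ _)
  let w : Fin c → Fin n → κ := fun i l => ev (pderiv l (f i))
  by_cases hli : LinearIndependent κ w
  · refine Or.inl ?_
    obtain ⟨e, he⟩ := exists_left_inverse w hli
    obtain ⟨s, a, hs, ha⟩ := hclear (fun q : Fin c × Fin n => e q.1 q.2)
    refine ⟨fun k l => a (k, l), ?_⟩
    let Z : Matrix (Fin c) (Fin c) Λ := Matrix.of fun i k => φ (vecDer (fun l => a (k, l)) (f i))
    change IsUnit Z.det
    have hZ : (residue Λ).mapMatrix Z = j.mapMatrix (ev s • (1 : Matrix (Fin c) (Fin c) κ)) := by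
      ext i k
      simp only [RingHom.mapMatrix_apply, Matrix.map_apply, Z, Matrix.of_apply]
      rw [← hj]
      congr 1
      simp only [vecDer_apply, map_sum, map_mul, ha, mul_assoc, ← Finset.mul_sum]
      rw [he, Matrix.smul_apply, Matrix.one_apply, smul_eq_mul]
    have h1 : residue Λ Z.det ≠ 0 := by
      rw [RingHom.map_det, hZ, ← RingHom.map_det, map_ne_zero, Matrix.det_smul, Matrix.det_one, mul_one]
      exact pow_ne_zero _ hs
    by_contra hnu
    exact h1 ((residue_eq_zero_iff _).2 hnu)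
  · refine Or.inr ?_
    obtain ⟨z, hz, i₀, hi₀⟩ := Fintype.not_linearIndependent_iff.1 hli
    obtain ⟨s, a, hs, ha⟩ := hclear z
    refine ⟨a, ⟨i₀, fun h => ?_⟩, fun l => ?_⟩
    · rw [← hev, ha] at h
      exact mul_ne_zero hs hi₀ h
    · have h1 := congrFun hz l
      simp only [Finset.sum_apply, Pi.smul_apply, smul_eq_mul, Pi.zero_apply] at h1
      have h2 : ev (∑ i, a i * pderiv l (f i)) = 0 := by
        simp only [map_sum, map_mul, ha, mul_assoc, ← Finset.mul_sum]
        rw [show ∑ i, z i * ev (pderiv l (f i)) = 0 from h1, mul_zero]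
      rw [hev, map_sum] at h2
      simpa [Finset.sum_apply, grad] using h2

theorem not_smul_mem_of_minimal [IsNoetherianRing R] (π : Λ) (hπ : π ∈ maximalIdeal Λ) {c : ℕ}
    (f : Fin c → MvPolynomial (Fin n) R) (hf : ∀ i, φ (f i) = 0)
    (hspan : jac φ = Submodule.span Λ (Set.range fun i => grad φ (f i)))
    (hmin : ∀ (c' : ℕ) (f' : Fin c' → MvPolynomial (Fin n) R), (∀ i, φ (f' i) = 0) →
        jac φ = Submodule.span Λ (Set.range fun i => grad φ (f' i)) → c ≤ c')
    (a : Fin c → Λ) (i₀ : Fin c) (hi₀ : a i₀ ∉ maximalIdeal Λ)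
    (m : Fin n → Λ) (hm : m ∈ jac φ) : ∑ i, a i • grad φ (f i) ≠ π • m := by
  classical
  intro heq
  rw [hspan] at hm
  obtain ⟨μ, hμ⟩ := (Submodule.mem_span_range_iff_exists_fun Λ).1 hm
  have hu : IsUnit (a i₀ - π * μ i₀) := by
    have h1 : a i₀ - π * μ i₀ ∉ maximalIdeal Λ := fun h => hi₀ (by
      have := add_mem h ((maximalIdeal Λ).mul_mem_right (μ i₀) hπ)
      simpa using this)
    simpa using h1
  obtain ⟨c', rfl⟩ : ∃ c', c = c' + 1 := ⟨c - 1, by have := i₀.2; omega⟩
  let f' : Fin c' → MvPolynomial (Fin n) R := fun i => f (i₀.succAbove i)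
  let S := Submodule.span Λ (Set.range fun i => grad φ (f' i))
  have hne : ∀ i, i ≠ i₀ → grad φ (f i) ∈ S := fun i hi => by
    obtain ⟨k, rfl⟩ := Fin.exists_succAbove_eq hi
    exact Submodule.subset_span ⟨k, rfl⟩
  have hz : ∑ i, (a i - π * μ i) • grad φ (f i) = 0 := by
    simp only [sub_smul, Finset.sum_sub_distrib, mul_smul, ← Finset.smul_sum, hμ, heq, sub_self]
  have hi : grad φ (f i₀) ∈ S := by
    rw [← Finset.add_sum_erase _ _ (Finset.mem_univ i₀)] at hz
    obtain ⟨v, hv⟩ := hu
    have h2 : (v : Λ) • grad φ (f i₀) ∈ S := by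
      rw [hv, eq_neg_of_add_eq_zero_left hz]
      exact S.neg_mem (S.sum_mem fun i hi => S.smul_mem _ (hne i (Finset.ne_of_mem_erase hi)))
    simpa [smul_smul] using S.smul_mem (↑v⁻¹ : Λ) h2
  have h3 : jac φ = S := by
    refine le_antisymm ?_ (Submodule.span_le.2 ?_)
    · rw [hspan, Submodule.span_le]
      rintro _ ⟨i, rfl⟩
      by_cases h : i = i₀
      · subst h; exact hi
      · exact hne i h
    · rintro _ ⟨i, rfl⟩
      exact grad_mem_jac φ (hf _)
  have := hmin c' f' (fun i => hf _) h3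
  omega

end Groth.Agent.NeronLib
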