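import Mathlib
import Groth.Agent.NeronLib.Dichotomy
import Groth.Agent.RegLocalDer.Basic
import Groth.Agent.RegLocal.Basic

/-! The independent case: smoothness at the closed point. -/

set_option autoImplicit false
universe u

noncomputable section

namespace Groth.Agent.NeronLib

open MvPolynomial IsLocalRing

variable {R Λ : Type u} [CommRing R] [IsRegularRing R] [CommRing Λ] [IsDomain Λ] [IsLocalRing Λ]
  [Algebra R Λ]

/-- Elements with an invertible Jacobian generate a prime ideal of a regular local ring. -/
theorem isPrime_span_of_det (P : Type u) [CommRing P] [IsRegularLocalRing P] [Algebra R P] {c : ℕ}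
    (f : Fin c → P) (hf : ∀ i, f i ∈ maximalIdeal P) (D : Fin c → Derivation R P P)
    (hdet : IsUnit (Matrix.det (Matrix.of fun i j : Fin c => D i (f j)))) :
    (Ideal.span (Set.range f)).IsPrime := by
  have hreg := (RegLocalDer.quot_isRegular f hf
    (RegLocalDer.linearIndependent_of_det f hf (fun k => (D k).restrictScalars ℤ) hdet)).1
  haveI := hreg
  exact (Ideal.Quotient.isDomain_iff_prime _).1 (RegLocal.isDomain _)

/-- Extending a derivation to a localization. -/
theorem exists_derivation_localization {B : Type u} [CommRing B] [Algebra R B] (S : Type u) [CommRing S]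
    [Algebra R S] [Algebra B S] [IsScalarTower R B S] (M : Submonoid B) [IsLocalization M S]
    (D : Derivation R B B) :
    ∃ D' : Derivation R S S, ∀ x, D' (algebraMap B S x) = algebraMap B S (D x) := by
  haveI : Algebra.FormallyEtale B S := .of_isLocalization M
  refine ⟨((KaehlerDifferential.isBaseChange_of_formallyEtale R B S).lift
    ((Algebra.linearMap B S) ∘ₗ D.liftKaehlerDifferential)).compDer (KaehlerDifferential.D R S), fun x => ?_⟩
  change (KaehlerDifferential.isBaseChange_of_formallyEtale R B S).lift _ (KaehlerDifferential.D R S (algebraMap B S x)) = _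
  rw [← KaehlerDifferential.map_D R R B S x]
  refine (IsBaseChange.lift_eq _ _ _).trans ?_
  rw [LinearMap.comp_apply, Derivation.liftKaehlerDifferential_comp_D]
  rfl

theorem smooth_of_independent {n : ℕ} (φ : MvPolynomial (Fin n) R →ₐ[R] Λ) [(RingHom.ker φ).IsPrime]
    (hgen : Algebra.FormallySmooth R (RingHom.ker φ).ResidueField) {c : ℕ}
    (f : Fin c → MvPolynomial (Fin n) R) (hf : ∀ i, φ (f i) = 0)
    (hspan : jac φ = Submodule.span Λ (Set.range fun i => grad φ (f i)))
    (e : Fin c → Fin n → MvPolynomial (Fin n) R)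
    (hdet : IsUnit (Matrix.det (Matrix.of fun i k => φ (vecDer (e k) (f i))))) :
    ∃ a : MvPolynomial (Fin n) R ⧸ RingHom.ker φ, IsUnit (Ideal.Quotient.liftₐ (RingHom.ker φ) φ (fun _ h => h) a) ∧
      Algebra.Smooth R (Localization.Away a) := by
  classical
  let I : Ideal (MvPolynomial (Fin n) R) := RingHom.ker φ
  haveI : IsNoetherianRing R := inferInstance
  let p : Ideal (MvPolynomial (Fin n) R) := (maximalIdeal Λ).comap φ
  haveI : p.IsPrime := Ideal.comap_isPrime _ _
  have hIp : I ≤ p := fun x hx => by
    rw [Ideal.mem_comap, show φ x = 0 from hx]; exact zero_mem _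
  let J : Ideal (MvPolynomial (Fin n) R) := Ideal.span (Set.range f)
  have hJI : J ≤ I := by rw [Ideal.span_le]; rintro _ ⟨i, rfl⟩; exact hf i
  let M : Matrix (Fin c) (Fin c) (MvPolynomial (Fin n) R) := Matrix.of fun i k => vecDer (e k) (f i)
  have hd : φ M.det ∉ maximalIdeal Λ := by
    rw [AlgHom.map_det]
    exact fun h => h hdet
  -- generic point: `I = J` near `I`
  have hgenJ : ∀ x ∈ I, ∃ s, s ∉ I ∧ s * x ∈ J := by
    let Q := Localization.AtPrime I
    haveI : IsNoetherianRing Q := IsLocalization.isNoetherianRing I.primeCompl Q inferInstance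
    have hdI : M.det ∉ I := fun h => hd (by rw [show φ M.det = 0 from h]; exact zero_mem _)
    have hle : I.map (algebraMap _ Q) ≤ J.map (algebraMap _ Q) ⊔ maximalIdeal Q • I.map (algebraMap _ Q) := by
      rw [Ideal.map_le_iff_le_comap]
      intro x hx
      rw [Ideal.mem_comap]
      obtain ⟨μ, hμ⟩ := (Submodule.mem_span_range_iff_exists_fun Λ).1 (hspan ▸ grad_mem_jac φ hx)
      let v : Fin c → MvPolynomial (Fin n) R := fun k => vecDer (e k) x
      let a : Fin c → MvPolynomial (Fin n) R := Matrix.vecMul v M.adjugate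
      let x' := M.det * x - ∑ i, a i * f i
      have hv : ∀ k, φ (v k) = ∑ i, μ i * φ (M i k) := by
        intro k
        simp only [v, M, Matrix.of_apply, vecDer_apply, map_sum, map_mul, Finset.mul_sum]
        rw [Finset.sum_comm]
        refine Finset.sum_congr rfl fun l _ => ?_
        rw [← show (∑ i, μ i • grad φ (f i)) l = φ (pderiv l x) from congrFun hμ l, Finset.sum_apply,
          Finset.mul_sum]
        exact Finset.sum_congr rfl fun i _ => by simp only [Pi.smul_apply, smul_eq_mul, grad]; ring
      have ha : ∀ i, φ (a i) = φ M.det * μ i := by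
        intro i
        have h1 : φ (a i) = Matrix.vecMul (fun k => φ (v k)) ((φ.mapMatrix M).adjugate) i := by
          rw [← AlgHom.map_adjugate]
          simp [a, Matrix.vecMul, dotProduct]
        have h2 : (fun k => φ (v k)) = Matrix.vecMul μ (φ.mapMatrix M) := funext fun k => by
          rw [hv]; simp [Matrix.vecMul, dotProduct]
        rw [h1, h2, Matrix.vecMul_vecMul, Matrix.mul_adjugate, Matrix.vecMul_smul, Matrix.vecMul_one,
          AlgHom.map_det]
        rfl
      have hgrad : grad φ x' = 0 := by
        simp only [x', grad_sub, grad_sum, grad_mul, show φ x = 0 from hx, hf, zero_smul, add_zero, ha,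
          mul_smul, ← Finset.smul_sum, hμ, sub_self]
      have hx'I : x' ∈ I := sub_mem (I.mul_mem_left _ hx) (I.sum_mem fun i _ => I.mul_mem_left _ (hf i))
      haveI : IsScalarTower R Q I.ResidueField := IsScalarTower.of_algebraMap_eq fun c => rfl
      have hker : RingHom.ker (algebraMap Q I.ResidueField) = maximalIdeal Q := IsLocalRing.ker_residue
      have hc : (∑ _i : Fin 1, (1 : Q) • KaehlerDifferential.D R Q (algebraMap _ Q x')) ∈
          maximalIdeal Q • (⊤ : Submodule Q (KaehlerDifferential R Q)) := by
        refine Submodule.sum_mem _ fun _ _ => Submodule.smul_mem _ _ ?_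
        rw [← KaehlerDifferential.map_D R R (MvPolynomial (Fin n) R) Q, D_eq_sum,
          map_sum]
        refine Submodule.sum_mem _ fun l _ => ?_
        rw [map_smul, ← algebraMap_smul Q (pderiv l x')]
        refine Submodule.smul_mem_smul ?_ Submodule.mem_top
        rw [IsLocalization.AtPrime.to_map_mem_maximal_iff Q I]
        exact congrFun hgrad l
      have h3 := JacobianLib.mem_of_formallySmooth (R := R) (P := Q) (S := I.ResidueField)
        Ideal.Quotient.mk_surjective (fun _ : Fin 1 => algebraMap _ Q x') (fun _ => by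
          rw [hker, IsLocalization.AtPrime.to_map_mem_maximal_iff Q I]; exact hx'I) (fun _ => 1) hc
      rw [hker, pow_two, sup_idem, Fin.sum_univ_one, one_mul] at h3
      have hm : maximalIdeal Q = I.map (algebraMap _ Q) := (IsLocalization.AtPrime.map_eq_maximalIdeal I Q).symm
      have h4 : algebraMap _ Q x' ∈ maximalIdeal Q • I.map (algebraMap _ Q) := by
        rw [smul_eq_mul, ← hm]; exact h3
      have h5 : algebraMap _ Q (M.det * x) ∈ J.map (algebraMap _ Q) ⊔ maximalIdeal Q • I.map (algebraMap _ Q) := by
        rw [show M.det * x = ∑ i, a i * f i + x' by simp [x'], map_add]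
        refine Submodule.add_mem_sup ?_ h4
        exact Ideal.mem_map_of_mem _ (J.sum_mem fun i _ => J.mul_mem_left _ (Ideal.subset_span ⟨i, rfl⟩))
      rw [map_mul] at h5
      exact (Ideal.unit_mul_mem_iff_mem _ (IsLocalization.map_units Q (⟨_, hdI⟩ : I.primeCompl))).1 h5
    have hle' : I.map (algebraMap _ Q) ≤ J.map (algebraMap _ Q) :=
      Submodule.le_of_le_smul_of_le_jacobson_bot (IsNoetherian.noetherian _)
        (le_of_eq (IsLocalRing.jacobson_eq_maximalIdeal ⊥ bot_ne_top).symm) hle
    intro x hx
    obtain ⟨⟨⟨y, hy⟩, ⟨s, hs⟩⟩, he⟩ :=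
      (IsLocalization.mem_map_algebraMap_iff I.primeCompl Q).1 (hle' (Ideal.mem_map_of_mem _ hx))
    simp only at he
    rw [← map_mul, IsLocalization.eq_iff_exists I.primeCompl] at he
    obtain ⟨⟨t, ht⟩, he⟩ := he
    refine ⟨t * s, fun h => (‹I.IsPrime›.mem_or_mem h).elim ht hs, ?_⟩
    rw [mul_assoc, mul_comm s x, show t * (x * s) = t * y from he]
    exact J.mul_mem_left _ hy
  -- closed point: `P_p / (f)` is a domain, so `I = J` near `p`
  let P := Localization.AtPrime p
  haveI : IsRegularLocalRing P := IsRegularRing.isRegularLocalRing_localization p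
  let fP : Fin c → P := fun i => algebraMap _ P (f i)
  have hfm : ∀ i, fP i ∈ maximalIdeal P := fun i =>
    (IsLocalization.AtPrime.to_map_mem_maximal_iff P p _).2 (hIp (hf i))
  choose D' hD' using fun k => exists_derivation_localization (R := R) P p.primeCompl (vecDer (e k))
  have hJP : J.map (algebraMap _ P) = Ideal.span (Set.range fP) := by
    rw [Ideal.map_span, ← Set.range_comp]; rfl
  have hprime : (J.map (algebraMap (MvPolynomial (Fin n) R) P)).IsPrime := by
    rw [hJP]
    refine isPrime_span_of_det P fP hfm D' ?_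
    have he : (Matrix.of fun i j : Fin c => D' i (fP j)) = ((algebraMap _ P).mapMatrix M).transpose := by
      ext i j
      exact hD' i (f j)
    rw [he, Matrix.det_transpose, ← RingHom.map_det]
    exact IsLocalization.map_units P (⟨_, hd⟩ : p.primeCompl)
  have hIJ : I.map (algebraMap _ P) = J.map (algebraMap _ P) := by
    refine le_antisymm (Ideal.map_le_iff_le_comap.2 fun x hx => ?_) (Ideal.map_mono hJI)
    obtain ⟨s, hs, hsx⟩ := hgenJ x hx
    have h1 := Ideal.mem_map_of_mem (algebraMap _ P) hsx
    rw [map_mul] at h1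
    refine (hprime.mem_or_mem h1).resolve_left fun h2 => hs ?_
    have h3 := Ideal.map_mono (f := algebraMap (MvPolynomial (Fin n) R) P) hJI h2
    obtain ⟨m, hm, hms⟩ := (IsLocalization.algebraMap_mem_map_algebraMap_iff p.primeCompl P I s).1 h3
    exact (‹I.IsPrime›.mem_or_mem hms).resolve_left fun h => hm (hIp h)
  let A := MvPolynomial (Fin n) R ⧸ I
  let π : MvPolynomial (Fin n) R →+* A := Ideal.Quotient.mk I
  let pA : Ideal A := (maximalIdeal Λ).comap (Ideal.Quotient.liftₐ I φ (fun _ h => h))
  haveI : pA.IsPrime := Ideal.comap_isPrime _ _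
  have hp : p = pA.comap π := Ideal.ext fun x => Iff.rfl
  let S := Localization.AtPrime pA
  let χ : P →+* S := Localization.localRingHom p pA π hp
  letI := χ.toAlgebra
  haveI : IsScalarTower R P S := IsScalarTower.of_algebraMap_eq fun t => by
    rw [IsScalarTower.algebraMap_apply R (MvPolynomial (Fin n) R) P, RingHom.algebraMap_toAlgebra]
    change _ = χ _
    rw [Localization.localRingHom_to_map, IsScalarTower.algebraMap_apply R A S]
    rfl
  have hsurj : Function.Surjective (algebraMap P S) := by
    intro z
    obtain ⟨b, ⟨s, hs⟩, rfl⟩ := IsLocalization.exists_mk'_eq pA.primeCompl z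
    obtain ⟨b, rfl⟩ := Ideal.Quotient.mk_surjective b
    obtain ⟨s, rfl⟩ := Ideal.Quotient.mk_surjective s
    exact ⟨IsLocalization.mk' P b (⟨s, fun h => hs (hp ▸ h :)⟩ : p.primeCompl),
      Localization.localRingHom_mk' _ _ _ _ _ _⟩
  have hker : RingHom.ker (algebraMap P S) = I.map (algebraMap _ P) := by
    refine le_antisymm (fun x hx => ?_) (Ideal.map_le_iff_le_comap.2 fun x hx => ?_)
    · obtain ⟨x, s, rfl⟩ := IsLocalization.exists_mk'_eq p.primeCompl x
      rw [RingHom.mem_ker, RingHom.algebraMap_toAlgebra, Localization.localRingHom_mk',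
        IsLocalization.mk'_eq_zero_iff] at hx
      obtain ⟨⟨t, ht⟩, htr⟩ := hx
      obtain ⟨t, rfl⟩ := Ideal.Quotient.mk_surjective t
      have h1 : t * x ∈ I := Ideal.Quotient.eq_zero_iff_mem.1 (by rw [map_mul]; exact htr)
      have h2 := Ideal.mem_map_of_mem (algebraMap _ P) h1
      rw [map_mul] at h2
      rw [IsLocalization.mk'_eq_mul_mk'_one]
      exact Ideal.mul_mem_right _ _ ((Ideal.unit_mul_mem_iff_mem _
        (IsLocalization.map_units P (⟨t, fun h => ht (hp ▸ h :)⟩ : p.primeCompl))).1 h2)
    · rw [Ideal.mem_comap, RingHom.mem_ker, RingHom.algebraMap_toAlgebra, Localization.localRingHom_to_map,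
        Ideal.Quotient.eq_zero_iff_mem.2 hx, map_zero]
  have hsm : Algebra.FormallySmooth R S :=
    (JacobianLib.iff_minor (R := R) p I hIp hsurj hker).2
      ⟨c, f, fun k => vecDer (e k), hf, hIJ.trans hJP, fun h => hd h⟩
  haveI : Algebra.FinitePresentation R A :=
    Algebra.FinitePresentation.quotient (IsNoetherian.noetherian I)
  haveI : Algebra.IsSmoothAt R pA := hsm
  obtain ⟨a, ha, hsma⟩ := Algebra.IsSmoothAt.exists_notMem_smooth (R := R) pA
  exact ⟨a, of_not_not ha, hsma⟩

end Groth.Agent.NeronLib
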