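import Mathlib
import Groth.Agent.NeronLib.Smooth

/-! Smoothness at the closed point from independent relations generating at the generic point. -/

set_option autoImplicit false
universe u

noncomputable section

namespace Groth.Agent.NeronLib

open MvPolynomial IsLocalRing

section loc
variable {R P A : Type u} [CommRing R] [CommRing P] [CommRing A] [Algebra R P] [Algebra R A]

theorem localRingHom_surjective (π : P →+* A) (hπ : Function.Surjective π) (q : Ideal A) [q.IsPrime] :
    Function.Surjective (Localization.localRingHom (q.comap π) q π rfl) := by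
  intro z
  obtain ⟨b, ⟨s, hs⟩, rfl⟩ := IsLocalization.exists_mk'_eq q.primeCompl z
  obtain ⟨b, rfl⟩ := hπ b
  obtain ⟨s, rfl⟩ := hπ s
  exact ⟨IsLocalization.mk' (Localization.AtPrime (q.comap π)) b (⟨s, hs⟩ : (q.comap π).primeCompl),
    Localization.localRingHom_mk' _ _ _ _ _ _⟩

theorem ker_localRingHom (π : P →+* A) (hπ : Function.Surjective π) (q : Ideal A) [q.IsPrime] :
    RingHom.ker (Localization.localRingHom (q.comap π) q π rfl) =
      (RingHom.ker π).map (algebraMap P (Localization.AtPrime (q.comap π))) := by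
  refine le_antisymm (fun x hx => ?_) (Ideal.map_le_iff_le_comap.2 fun x hx => ?_)
  · obtain ⟨x, s, rfl⟩ := IsLocalization.exists_mk'_eq (q.comap π).primeCompl x
    rw [RingHom.mem_ker, Localization.localRingHom_mk', IsLocalization.mk'_eq_zero_iff] at hx
    obtain ⟨⟨t, ht⟩, htr⟩ := hx
    obtain ⟨t, rfl⟩ := hπ t
    have h1 : t * x ∈ RingHom.ker π := by rw [RingHom.mem_ker, map_mul]; exact htr
    have h2 := Ideal.mem_map_of_mem (algebraMap P (Localization.AtPrime (q.comap π))) h1
    rw [map_mul] at h2
    rw [IsLocalization.mk'_eq_mul_mk'_one]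
    exact Ideal.mul_mem_right _ _ ((Ideal.unit_mul_mem_iff_mem _
      (IsLocalization.map_units (Localization.AtPrime (q.comap π)) (⟨t, ht⟩ : (q.comap π).primeCompl))).1 h2)
  · rw [Ideal.mem_comap, RingHom.mem_ker, Localization.localRingHom_to_map, RingHom.mem_ker.1 hx, map_zero]

/-- The Jacobian criterion for a presented algebra at a prime. -/
theorem isSmoothAt_iff_minor [IsNoetherianRing P] [Algebra.FormallySmooth R P] (π : P →ₐ[R] A)
    (hπ : Function.Surjective π) (q : Ideal A) [q.IsPrime] :
    Algebra.IsSmoothAt R q ↔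
      ∃ (m : ℕ) (f : Fin m → P) (D' : Fin m → Derivation R P P),
        (∀ i, f i ∈ RingHom.ker π.toRingHom) ∧
        (RingHom.ker π.toRingHom).map (algebraMap P (Localization.AtPrime (q.comap π.toRingHom))) =
          Ideal.span (Set.range fun i => algebraMap P (Localization.AtPrime (q.comap π.toRingHom)) (f i)) ∧
        Matrix.det (Matrix.of fun i j => D' j (f i)) ∉ q.comap π.toRingHom := by
  let χ := Localization.localRingHom (q.comap π.toRingHom) q π.toRingHom rfl
  letI := χ.toAlgebra
  haveI : IsScalarTower R (Localization.AtPrime (q.comap π.toRingHom)) (Localization.AtPrime q) :=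
    IsScalarTower.of_algebraMap_eq fun t => by
      rw [IsScalarTower.algebraMap_apply R P (Localization.AtPrime (q.comap π.toRingHom)),
        RingHom.algebraMap_toAlgebra]
      change _ = χ _
      rw [Localization.localRingHom_to_map, IsScalarTower.algebraMap_apply R A (Localization.AtPrime q)]
      exact congrArg _ (π.commutes t).symm
  exact JacobianLib.iff_minor (R := R) (q.comap π.toRingHom) (RingHom.ker π.toRingHom)
    (fun x hx => by rw [Ideal.mem_comap, RingHom.mem_ker.1 hx]; exact zero_mem _)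
    (localRingHom_surjective π.toRingHom hπ q) (ker_localRingHom π.toRingHom hπ q)

end loc

variable {R Λ : Type u} [CommRing R] [CommRing Λ] [IsDomain Λ] [IsLocalRing Λ] [Algebra R Λ] {n : ℕ}

theorem apply_derivation_eq_zero (φ : MvPolynomial (Fin n) R →ₐ[R] Λ)
    (D : Derivation R (MvPolynomial (Fin n) R) (MvPolynomial (Fin n) R)) {x : MvPolynomial (Fin n) R}
    (hx : grad φ x = 0) : φ (D x) = 0 := by
  rw [show D = vecDer (fun l => D (X l)) from MvPolynomial.derivation_ext fun l => (mkDerivation_X R (fun l => D (X l)) l).symm,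
    vecDer_apply, map_sum]
  refine Finset.sum_eq_zero fun l _ => ?_
  rw [map_mul, show φ (pderiv l x) = 0 from congrFun hx l, mul_zero]

/-- Smoothness at the generic point: relations with vanishing gradient are of second order there. -/
theorem exists_mul_mem_of_isSmoothAt [IsNoetherianRing R] {A : Type u} [CommRing A] [Algebra R A]
    (π : MvPolynomial (Fin n) R →ₐ[R] A) (hπ : Function.Surjective π) (l : A →ₐ[R] Λ)
    [(RingHom.ker l.toRingHom).IsPrime]
    (hq : Algebra.IsSmoothAt R (RingHom.ker l.toRingHom)) {x : MvPolynomial (Fin n) R} (hx : π x = 0)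
    (hgrad : grad (l.comp π) x = 0) :
    ∃ s, l (π s) ≠ 0 ∧ s * x ∈ RingHom.ker (l.comp π).toRingHom * RingHom.ker π.toRingHom := by
  classical
  obtain ⟨m, g, D', hg, hspan, hdet⟩ := (isSmoothAt_iff_minor π hπ (RingHom.ker l.toRingHom)).1 hq
  let Q : Ideal (MvPolynomial (Fin n) R) := (RingHom.ker l.toRingHom).comap π.toRingHom
  have h1 := Ideal.mem_map_of_mem (algebraMap _ (Localization.AtPrime Q)) (show x ∈ RingHom.ker π.toRingHom from hx)
  rw [hspan, show (fun i => algebraMap _ (Localization.AtPrime Q) (g i)) =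
    algebraMap (MvPolynomial (Fin n) R) (Localization.AtPrime Q) ∘ g from rfl, Set.range_comp, ← Ideal.map_span,
    IsLocalization.algebraMap_mem_map_algebraMap_iff Q.primeCompl] at h1
  obtain ⟨s, hs, hsx⟩ := h1
  obtain ⟨a, ha⟩ := Ideal.mem_span_range_iff_exists_fun.1 hsx
  refine ⟨s, hs, ?_⟩
  let ψ := l.comp π
  have hgψ : ∀ i, ψ (g i) = 0 := fun i => by simp [ψ, show π (g i) = 0 from hg i]
  have hxψ : ψ x = 0 := by simp [ψ, hx]
  let N : Matrix (Fin m) (Fin m) (MvPolynomial (Fin n) R) := Matrix.of fun i j => D' j (g i)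
  have hN : (ψ.toRingHom.mapMatrix N).det ≠ 0 := by
    rw [← RingHom.map_det]
    exact hdet
  have hv : Matrix.vecMul (fun i => ψ (a i)) (ψ.toRingHom.mapMatrix N) = 0 := funext fun j => by
    have h2 : ψ (D' j (∑ i, a i * g i)) = ψ (D' j (s * x)) := by rw [ha]
    simp only [map_sum, Derivation.leibniz, smul_eq_mul, map_add, map_mul, hgψ, hxψ,
      apply_derivation_eq_zero ψ (D' j) hgrad, zero_mul, mul_zero, add_zero] at h2
    simpa [Matrix.vecMul, dotProduct, N] using h2
  rw [← ha]
  exact Ideal.sum_mem _ fun i _ => Ideal.mul_mem_mul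
    (congrFun (Matrix.eq_zero_of_vecMul_eq_zero hN hv) i) (hg i)

/-- Independent relations generating at the generic point give smoothness at the closed point. -/
theorem isSmoothAt_closed [IsRegularRing R] {A : Type u} [CommRing A] [Algebra R A]
    (π : MvPolynomial (Fin n) R →ₐ[R] A) (hπ : Function.Surjective π) (l : A →ₐ[R] Λ) {c : ℕ}
    (f : Fin c → MvPolynomial (Fin n) R) (hf : ∀ i, π (f i) = 0)
    (e : Fin c → Fin n → MvPolynomial (Fin n) R)
    (hdet : IsUnit (Matrix.det (Matrix.of fun i k => l (π (vecDer (e k) (f i))))))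
    (hgenJ : ∀ x, π x = 0 → ∃ s, l (π s) ≠ 0 ∧ s * x ∈ Ideal.span (Set.range f)) :
    Algebra.IsSmoothAt R ((maximalIdeal Λ).comap l.toRingHom) := by
  classical
  haveI : IsNoetherianRing R := inferInstance
  let pA : Ideal A := (maximalIdeal Λ).comap l.toRingHom
  let p : Ideal (MvPolynomial (Fin n) R) := pA.comap π.toRingHom
  let M : Matrix (Fin c) (Fin c) (MvPolynomial (Fin n) R) := Matrix.of fun i k => vecDer (e k) (f i)
  have hd : M.det ∉ p := by
    intro h
    have h' : (l.comp π) M.det ∈ maximalIdeal Λ := h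
    rw [AlgHom.map_det] at h'
    exact h' hdet
  refine (isSmoothAt_iff_minor π hπ pA).2 ⟨c, f, fun k => vecDer (e k), hf, ?_, hd⟩
  let P := Localization.AtPrime p
  haveI : IsRegularLocalRing P := IsRegularRing.isRegularLocalRing_localization p
  let fP : Fin c → P := fun i => algebraMap _ P (f i)
  have hfp : ∀ i, f i ∈ p := fun i => by
    change l (π (f i)) ∈ maximalIdeal Λ
    rw [hf, map_zero]; exact zero_mem _
  choose D' hD' using fun k => exists_derivation_localization (R := R) P p.primeCompl (vecDer (e k))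
  let J : Ideal (MvPolynomial (Fin n) R) := Ideal.span (Set.range f)
  have hJP : J.map (algebraMap _ P) = Ideal.span (Set.range fP) := by
    rw [Ideal.map_span, ← Set.range_comp]; rfl
  have hprime : (J.map (algebraMap (MvPolynomial (Fin n) R) P)).IsPrime := by
    rw [hJP]
    refine isPrime_span_of_det P fP (fun i => (IsLocalization.AtPrime.to_map_mem_maximal_iff P p _).2 (hfp i)) D' ?_
    have he : (Matrix.of fun i j : Fin c => D' i (fP j)) = ((algebraMap _ P).mapMatrix M).transpose := by
      ext i j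
      exact hD' i (f j)
    rw [he, Matrix.det_transpose, ← RingHom.map_det]
    exact IsLocalization.map_units P (⟨_, hd⟩ : p.primeCompl)
  refine (le_antisymm (Ideal.map_le_iff_le_comap.2 fun x hx => ?_) ?_).trans hJP
  · obtain ⟨s, hs, hsx⟩ := hgenJ x hx
    have h1 := Ideal.mem_map_of_mem (algebraMap _ P) hsx
    rw [map_mul] at h1
    refine (hprime.mem_or_mem h1).resolve_left fun h2 => hs ?_
    obtain ⟨m, hm, hms⟩ := (IsLocalization.algebraMap_mem_map_algebraMap_iff p.primeCompl P J s).1 h2
    have h3 : J ≤ RingHom.ker (l.comp π).toRingHom := Ideal.span_le.2 (by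
      rintro _ ⟨i, rfl⟩; simp [hf])
    have h4 : l (π m) * l (π s) = 0 := by simpa using h3 hms
    refine (mul_eq_zero.1 h4).resolve_left fun h5 => hm ?_
    change l (π m) ∈ maximalIdeal Λ
    rw [h5]; exact zero_mem _
  · refine Ideal.map_mono (Ideal.span_le.2 ?_)
    rintro _ ⟨i, rfl⟩
    exact hf i

/-- Relations of a smooth generic point are generated by independent relations there. -/
theorem exists_mul_mem_span [IsNoetherianRing R] {A : Type u} [CommRing A] [Algebra R A]
    (π : MvPolynomial (Fin n) R →ₐ[R] A) (hπ : Function.Surjective π) (l : A →ₐ[R] Λ)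
    [(RingHom.ker l.toRingHom).IsPrime]
    (hq : Algebra.IsSmoothAt R (RingHom.ker l.toRingHom)) {c : ℕ}
    (f : Fin c → MvPolynomial (Fin n) R) (hf : ∀ i, π (f i) = 0)
    (hspan : ∀ x, π x = 0 → grad (l.comp π) x ∈ Submodule.span Λ (Set.range fun i => grad (l.comp π) (f i)))
    (e : Fin c → Fin n → MvPolynomial (Fin n) R)
    (hdet : IsUnit (Matrix.det (Matrix.of fun i k => l (π (vecDer (e k) (f i))))))
    {x₀ : MvPolynomial (Fin n) R} (hx₀ : π x₀ = 0) :
    ∃ s, l (π s) ≠ 0 ∧ s * x₀ ∈ Ideal.span (Set.range f) := by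
  classical
  let φ := l.comp π
  let I : Ideal (MvPolynomial (Fin n) R) := RingHom.ker π.toRingHom
  let Qi : Ideal (MvPolynomial (Fin n) R) := RingHom.ker φ.toRingHom
  haveI : Qi.IsPrime := RingHom.ker_isPrime _
  let J : Ideal (MvPolynomial (Fin n) R) := Ideal.span (Set.range f)
  let Q := Localization.AtPrime Qi
  haveI : IsNoetherianRing Q := IsLocalization.isNoetherianRing Qi.primeCompl Q inferInstance
  let M : Matrix (Fin c) (Fin c) (MvPolynomial (Fin n) R) := Matrix.of fun i k => vecDer (e k) (f i)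
  have hd : φ M.det ≠ 0 := by
    rw [AlgHom.map_det]
    exact hdet.ne_zero
  have hφf : ∀ i, φ (f i) = 0 := fun i => by simp [φ, hf]
  have hle : I.map (algebraMap _ Q) ≤ J.map (algebraMap _ Q) ⊔ maximalIdeal Q • I.map (algebraMap _ Q) := by
    rw [Ideal.map_le_iff_le_comap]
    intro x hx
    rw [Ideal.mem_comap]
    obtain ⟨μ, hμ⟩ := (Submodule.mem_span_range_iff_exists_fun Λ).1 (hspan x hx)
    let v : Fin c → MvPolynomial (Fin n) R := fun k => vecDer (e k) x
    let a : Fin c → MvPolynomial (Fin n) R := Matrix.vecMul v M.adjugate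
    let x' := M.det * x - ∑ i, a i * f i
    have hv : ∀ k, φ (v k) = ∑ i, μ i * φ (M i k) := by
      intro k
      simp only [v, M, Matrix.of_apply, vecDer_apply, map_sum, map_mul, Finset.mul_sum]
      rw [Finset.sum_comm]
      refine Finset.sum_congr rfl fun j _ => ?_
      rw [← show (∑ i, μ i • grad φ (f i)) j = φ (pderiv j x) from congrFun hμ j, Finset.sum_apply,
        Finset.mul_sum]
      exact Finset.sum_congr rfl fun i _ => by simp only [Pi.smul_apply, smul_eq_mul, grad]; ring
    have ha : ∀ i, φ (a i) = φ M.det * μ i := by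
      intro i
      have h1 : φ (a i) = Matrix.vecMul (fun k => φ (v k)) ((φ.mapMatrix M).adjugate) i := by
        rw [← AlgHom.map_adjugate]
        simp [a, Matrix.vecMul, dotProduct]
      have h2 : (fun k => φ (v k)) = Matrix.vecMul μ (φ.mapMatrix M) := funext fun k => by
        rw [hv]; simp [Matrix.vecMul, dotProduct]
      rw [h1, h2, Matrix.vecMul_vecMul, Matrix.mul_adjugate, Matrix.vecMul_smul, Matrix.vecMul_one,
        AlgHom.map_det]
      rfl
    have hgrad : grad φ x' = 0 := by
      simp only [x', grad_sub, grad_sum, grad_mul, show φ x = 0 by simp [φ, show π x = 0 from hx], hφf,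
        zero_smul, add_zero, ha, mul_smul, ← Finset.smul_sum]
      rw [show (∑ i, μ i • grad φ (f i)) = grad φ x from hμ, sub_self]
    have hx'I : x' ∈ I := sub_mem (I.mul_mem_left _ hx) (I.sum_mem fun i _ => I.mul_mem_left _ (hf i))
    obtain ⟨s, hs, hsx⟩ := exists_mul_mem_of_isSmoothAt π hπ l hq hx'I hgrad
    have h3 := Ideal.mem_map_of_mem (algebraMap _ Q) hsx
    rw [Ideal.map_mul, map_mul, IsLocalization.AtPrime.map_eq_maximalIdeal Qi Q] at h3
    have h4 : algebraMap _ Q x' ∈ maximalIdeal Q • I.map (algebraMap _ Q) :=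
      (Ideal.unit_mul_mem_iff_mem _ (IsLocalization.map_units Q (⟨s, hs⟩ : Qi.primeCompl))).1 h3
    have h5 : algebraMap _ Q (M.det * x) ∈ J.map (algebraMap _ Q) ⊔ maximalIdeal Q • I.map (algebraMap _ Q) := by
      rw [show M.det * x = ∑ i, a i * f i + x' by simp [x'], map_add]
      refine Submodule.add_mem_sup ?_ h4
      exact Ideal.mem_map_of_mem _ (J.sum_mem fun i _ => J.mul_mem_left _ (Ideal.subset_span ⟨i, rfl⟩))
    rw [map_mul] at h5
    exact (Ideal.unit_mul_mem_iff_mem _ (IsLocalization.map_units Q (⟨_, hd⟩ : Qi.primeCompl))).1 h5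
  have hle' : I.map (algebraMap _ Q) ≤ J.map (algebraMap _ Q) :=
    Submodule.le_of_le_smul_of_le_jacobson_bot (IsNoetherian.noetherian _)
      (le_of_eq (IsLocalRing.jacobson_eq_maximalIdeal ⊥ bot_ne_top).symm) hle
  obtain ⟨s, hs, hsx⟩ := (IsLocalization.algebraMap_mem_map_algebraMap_iff Qi.primeCompl Q J x₀).1
    (hle' (Ideal.mem_map_of_mem _ (show x₀ ∈ I from hx₀)))
  exact ⟨s, hs, hsx⟩

end Groth.Agent.NeronLib
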