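import Mathlib
import Groth.Prelude.Def_BlowUp2
import Groth.Agent.BlowChartLib.Algebra
import Groth.Agent.NeronLib.Conormal
import Groth.Agent.NeronLib.Dichotomy
import Groth.Agent.NeronLib.SmoothPoint

/-! Néron's blow-up of a smooth point is smooth. -/

set_option autoImplicit false
universe u

noncomputable section

namespace Groth.Agent.NeronLib

open MvPolynomial IsLocalRing

theorem pderiv_rename_of_notMem_range {R σ τ : Type*} [CommRing R] (f : σ → τ) {i : τ} (h : ∀ l, f l ≠ i)
    (p : MvPolynomial σ R) : pderiv i (rename f p) = 0 := by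
  induction p using MvPolynomial.induction_on with
  | C c => simp
  | add p q hp hq => simp [hp, hq]
  | mul_X p l hp => rw [map_mul, pderiv_mul, hp, rename_X, pderiv_X_of_ne (h l)]; simp

theorem pderiv_rename_apply {R σ τ : Type*} [CommRing R] {f : σ → τ} (hf : Function.Injective f) (l : σ)
    (p : MvPolynomial σ R) : pderiv (f l) (rename f p) = rename f (pderiv l p) := by
  classical
  induction p using MvPolynomial.induction_on with
  | C c => simp
  | add p q hp hq => simp [hp, hq]
  | mul_X p k hp =>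
    simp only [map_mul, map_add, pderiv_mul, hp, rename_X]
    by_cases h : k = l
    · subst h; simp
    · rw [pderiv_X_of_ne (fun e => h (hf e)), pderiv_X_of_ne h]
      simp

variable {R Λ : Type u} [CommRing R] [CommRing Λ] [IsDomain Λ] [IsLocalRing Λ] [Algebra R Λ] {n r c N : ℕ}

/-- Old variables. -/
def xc (r N : ℕ) (l : Fin n) : Fin (n + (r + N)) := Fin.castAdd (r + N) l
/-- Fractions of the conormal elements. -/
def yc (n N : ℕ) (j : Fin r) : Fin (n + (r + N)) := Fin.natAdd n (Fin.castAdd N j)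
/-- Fractions of the generators. -/
def zc (n r : ℕ) (k : Fin N) : Fin (n + (r + N)) := Fin.natAdd n (Fin.natAdd r k)

theorem xc_ne_yc (l : Fin n) (j : Fin r) : xc r N l ≠ yc n N j := fun h => by
  have := congrArg Fin.val h; simp [xc, yc] at this; omega
theorem xc_ne_zc (l : Fin n) (k : Fin N) : xc r N l ≠ zc n r k := fun h => by
  have := congrArg Fin.val h; simp [xc, zc] at this; omega
theorem yc_ne_zc (j : Fin r) (k : Fin N) : yc n N j ≠ zc n r k := fun h => by
  have := congrArg Fin.val h; simp [yc, zc] at this; omega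

/-- The inclusion of the old polynomial ring. -/
def incl (r N : ℕ) : MvPolynomial (Fin n) R →ₐ[R] MvPolynomial (Fin (n + (r + N))) R := rename (xc r N)

/-- The relation for a conormal element. -/
def relH (π : R) (N : ℕ) (g : Fin r → MvPolynomial (Fin n) R) (j : Fin r) : MvPolynomial (Fin (n + (r + N))) R :=
  incl r N (g j) - C π * X (yc n N j)
/-- The relation from an old relation. -/
def relU (N : ℕ) (af : MvPolynomial (Fin n) R) (bf : Fin r → MvPolynomial (Fin n) R) :
    MvPolynomial (Fin (n + (r + N))) R :=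
  incl r N af + ∑ j, incl r N (bf j) * X (yc n N j)
/-- The relation for a new generator. -/
def relV (s a : MvPolynomial (Fin n) R) (b : Fin r → MvPolynomial (Fin n) R) (k : Fin N) :
    MvPolynomial (Fin (n + (r + N))) R :=
  incl r N s * X (zc n r k) - (incl r N a + ∑ j, incl r N (b j) * X (yc n N j))

theorem exists_det_blowup (π : R) (hπm : algebraMap R Λ π ∈ maximalIdeal Λ)
    (φ : MvPolynomial (Fin n) R →ₐ[R] Λ) (φ' : MvPolynomial (Fin (n + (r + N))) R →ₐ[R] Λ)
    (hψ : ∀ p, φ' (incl r N p) = φ p)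
    (f : Fin c → MvPolynomial (Fin n) R) (D : Fin c → Derivation R (MvPolynomial (Fin n) R) (MvPolynomial (Fin n) R))
    (hfφ : ∀ i, φ (f i) = 0) (hdetf : φ (Matrix.det (Matrix.of fun i j => D j (f i))) ∉ maximalIdeal Λ)
    (g : Fin r → MvPolynomial (Fin n) R) (H : Fin r → Fin n → Λ) (hgm : ∀ j, φ (g j) ∈ maximalIdeal Λ)
    (hHG : ∀ k j, ∑ l, H k l * grad φ (g j) l = if k = j then 1 else 0)
    (sf af : Fin c → MvPolynomial (Fin n) R) (bf : Fin c → Fin r → MvPolynomial (Fin n) R)
    (hsf : ∀ i, φ (sf i) ∉ maximalIdeal Λ) (hdf : ∀ i, sf i * f i = C π * af i + ∑ j, bf i j * g j)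
    (sG aG : Fin N → MvPolynomial (Fin n) R) (bG : Fin N → Fin r → MvPolynomial (Fin n) R)
    (hsG : ∀ k, φ (sG k) ∉ maximalIdeal Λ)
    (F : Fin (r + (c + N)) → MvPolynomial (Fin (n + (r + N))) R)
    (hF : F = Fin.append (relH π N g) (Fin.append (fun i => relU N (af i) (bf i))
      (fun k => relV (sG k) (aG k) (bG k) k))) :
    ∃ e : Fin (r + (c + N)) → Fin (n + (r + N)) → MvPolynomial (Fin (n + (r + N))) R,
      IsUnit (Matrix.det (Matrix.of fun i k => φ' (vecDer (e k) (F i)))) := by
  classical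
  have hxinj : Function.Injective (xc (n := n) r N) := Fin.castAdd_injective _ _
  have hyinj : Function.Injective (yc (r := r) n N) := (Fin.natAdd_injective _ _).comp (Fin.castAdd_injective _ _)
  have hzinj : Function.Injective (zc (N := N) n r) := (Fin.natAdd_injective _ _).comp (Fin.natAdd_injective _ _)
  have hxy : ∀ (l : Fin n) (j : Fin r), xc r N l ≠ yc n N j := xc_ne_yc
  have hxz : ∀ (l : Fin n) (k : Fin N), xc r N l ≠ zc n r k := xc_ne_zc
  have hyz : ∀ (j : Fin r) (k : Fin N), yc n N j ≠ zc n r k := yc_ne_zc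
  rcases dichotomy φ' F with hdet | ⟨co, ⟨i₀, hi₀⟩, hdep⟩
  · exact hdet
  · refine absurd ?_ hi₀
    let res := residue Λ
    let ev : MvPolynomial (Fin n) R → ResidueField Λ := fun p => res (φ p)
    let α : Fin r → ResidueField Λ := fun j => res (φ' (co (Fin.castAdd (c + N) j)))
    let β : Fin c → ResidueField Λ := fun i => res (φ' (co (Fin.natAdd r (Fin.castAdd N i))))
    let γ : Fin N → ResidueField Λ := fun k => res (φ' (co (Fin.natAdd r (Fin.natAdd c k))))
    have hπ0 : res (algebraMap R Λ π) = 0 := (residue_eq_zero_iff _).2 hπm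
    have hz : ∀ t, ∑ j, α j * res (φ' (pderiv t (relH π N g j))) + (∑ i, β i * res (φ' (pderiv t (relU N (af i) (bf i)))) +
        ∑ k, γ k * res (φ' (pderiv t (relV (sG k) (aG k) (bG k) k)))) = 0 := by
      intro t
      have h0 : res ((∑ i, φ' (co i) • grad φ' (F i)) t) = 0 := (residue_eq_zero_iff _).2 (hdep t)
      rw [Fin.sum_univ_add, Fin.sum_univ_add] at h0
      simpa [Finset.sum_apply, grad, hF, α, β, γ] using h0
    have hX : ∀ l p, res (φ' (pderiv (xc r N l) (incl r N p))) = ev (pderiv l p) := fun l p => by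
      rw [show pderiv (xc r N l) (incl r N p) = incl r N (pderiv l p) from pderiv_rename_apply hxinj l p, hψ]
    have hY0 : ∀ (j : Fin r) (p : MvPolynomial (Fin n) R), pderiv (yc n N j) (incl r N p) = 0 := fun j p => pderiv_rename_of_notMem_range _ (fun l => hxy l j) p
    have hZ0 : ∀ (k : Fin N) (p : MvPolynomial (Fin n) R), pderiv (zc n r k) (incl r N p) = 0 := fun k p => pderiv_rename_of_notMem_range _ (fun l => hxz l k) p
    have hπC : res (φ' (C π)) = 0 := by rw [← MvPolynomial.algebraMap_eq, AlgHom.commutes, hπ0]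
    have hev : ∀ p, res (φ' (incl r N p)) = ev p := fun p => by rw [hψ]
    have hγ : ∀ k, γ k = 0 := by
      intro k
      have h1 := hz (zc n r k)
      have e1 : ∀ j, pderiv (zc n r k) (relH π N g j) = 0 := fun j => by
        simp only [relH, map_sub, pderiv_mul, hZ0, pderiv_C, pderiv_X_of_ne (hyz j k)]
        simp
      have e2 : ∀ i, pderiv (zc n r k) (relU N (af i) (bf i)) = 0 := fun i => by
        simp [relU, pderiv_mul, hZ0, pderiv_X_of_ne (hyz _ k)]
      have e3 : ∀ k', pderiv (zc n r k) (relV (sG k') (aG k') (bG k') k') = if k = k' then incl r N (sG k') else 0 := fun k' => by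
        by_cases hk : k = k'
        · subst hk; simp [relV, pderiv_mul, hZ0, pderiv_X_of_ne (hyz _ k)]
        · rw [if_neg hk]
          simp [relV, pderiv_mul, hZ0, pderiv_X_of_ne (hyz _ k), pderiv_X_of_ne (fun e => hk (hzinj e).symm)]
      simp only [e1, e2, e3, apply_ite φ', apply_ite res, map_zero, mul_zero, Finset.sum_const_zero, zero_add,
        hev, mul_ite, Finset.sum_ite_eq, Finset.mem_univ, if_true] at h1
      refine (mul_eq_zero.1 h1).resolve_right fun h2 => hsG k ((residue_eq_zero_iff _).1 h2)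
    have hβb : ∀ j, ∑ i, β i * ev (bf i j) = 0 := by
      intro j
      have h1 := hz (yc n N j)
      have e1 : ∀ j', res (φ' (pderiv (yc n N j) (relH π N g j'))) = 0 := fun j' => by
        simp [relH, pderiv_mul, hY0, hπC, hπ0]
      have e2 : ∀ i, res (φ' (pderiv (yc n N j) (relU N (af i) (bf i)))) = ev (bf i j) := fun i => by
        simp only [relU, map_add, map_sum, pderiv_mul, hY0, zero_mul, zero_add, map_zero]
        rw [Finset.sum_eq_single j (fun j' _ hj' => by rw [pderiv_X_of_ne (fun e => hj' (hyinj e))]; simp) (by simp),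
          pderiv_X_self, mul_one, hev]
      simpa [e1, e2, hγ] using h1
    have hgev : ∀ j, ev (g j) = 0 := fun j => (residue_eq_zero_iff _).2 (hgm j)
    have hβf : ∀ l, ∑ i, β i * ev (sf i) * ev (pderiv l (f i)) = 0 := by
      intro l
      have e : ∀ i, ev (sf i) * ev (pderiv l (f i)) = ∑ j, ev (bf i j) * ev (pderiv l (g j)) := fun i => by
        have h1 := congrArg (fun p => res (φ (pderiv l p))) (hdf i)
        simp only [pderiv_mul, map_add, map_sum, map_mul, hfφ, map_zero, mul_zero, pderiv_C, zero_add, zero_mul,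
          ← MvPolynomial.algebraMap_eq, AlgHom.commutes, hπ0] at h1
        simpa [ev, Finset.sum_add_distrib, show ∀ j, res (φ (g j)) = 0 from hgev] using h1
      simp only [mul_assoc, e, Finset.mul_sum]
      rw [Finset.sum_comm]
      refine Finset.sum_eq_zero fun j _ => ?_
      simp only [← mul_assoc, ← Finset.sum_mul, hβb, zero_mul]
    have hβ : ∀ i, β i = 0 := by
      let M : Matrix (Fin c) (Fin c) (ResidueField Λ) := Matrix.of fun i j => ev (D j (f i))
      have hM : M.det ≠ 0 := fun h0 => hdetf (by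
        refine (residue_eq_zero_iff _).1 ?_
        rw [AlgHom.map_det, RingHom.map_det]
        exact h0)
      have hm : Matrix.vecMul (fun i => β i * ev (sf i)) M = 0 := funext fun j => by
        simp only [Matrix.vecMul, dotProduct, Pi.zero_apply, M, Matrix.of_apply]
        have e : ∀ p, ev (D j p) = ∑ l, ev (D j (X l)) * ev (pderiv l p) := fun p => by
          rw [show D j = vecDer (fun l => D j (X l)) from
            MvPolynomial.derivation_ext fun l => (mkDerivation_X R (fun l => D j (X l)) l).symm, vecDer_apply]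
          simp only [ev, map_sum, map_mul]
          refine Finset.sum_congr rfl fun l _ => ?_
          rw [show vecDer (fun l => D j (X l)) (X l) = D j (X l) from mkDerivation_X R _ l]
        refine (Finset.sum_congr rfl (fun i _ => by rw [e (f i), Finset.mul_sum])).trans ?_
        rw [Finset.sum_comm]
        refine Finset.sum_eq_zero fun l _ => ?_
        rw [Finset.sum_congr rfl (fun i _ => mul_left_comm _ _ _), ← Finset.mul_sum, hβf, mul_zero]
      intro i
      exact (mul_eq_zero.1 (congrFun (Matrix.eq_zero_of_vecMul_eq_zero hM hm) i)).resolve_right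
        fun h2 => hsf i ((residue_eq_zero_iff _).1 h2)
    have hα : ∀ j, α j = 0 := by
      intro k
      have hG0 : ∀ l, ∑ j, α j * ev (pderiv l (g j)) = 0 := fun l => by
        have e1 : ∀ j, res (φ' (pderiv (xc r N l) (relH π N g j))) = ev (pderiv l (g j)) := fun j => by
          simp [relH, pderiv_mul, hX, hπC, hπ0]
        simpa [e1, hβ, hγ] using hz (xc r N l)
      calc α k = ∑ j, α j * (if k = j then 1 else 0) := by simp
        _ = ∑ j, α j * res (∑ l, H k l * grad φ (g j) l) := by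
          refine Finset.sum_congr rfl fun j _ => ?_
          rw [hHG]; split_ifs <;> simp
        _ = ∑ l, res (H k l) * ∑ j, α j * ev (pderiv l (g j)) := by
          simp only [map_sum, map_mul, Finset.mul_sum]
          rw [Finset.sum_comm]
          exact Finset.sum_congr rfl fun l _ => Finset.sum_congr rfl fun j _ => by simp only [ev, grad]; ring
        _ = 0 := by simp [hG0]
    rw [← residue_eq_zero_iff]
    refine Fin.addCases (fun j => ?_) (fun i => ?_) i₀
    · exact hα j
    · refine Fin.addCases (fun i => ?_) (fun k => ?_) i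
      · exact hβ i
      · exact hγ k

theorem incl_lift_mem (π : R) (g : Fin r → MvPolynomial (Fin n) R)
    (J : Ideal (MvPolynomial (Fin (n + (r + N))) R)) (hhJ : ∀ j, relH π N g j ∈ J)
    (s e z : MvPolynomial (Fin n) R) (b : Fin r → MvPolynomial (Fin n) R)
    (he : s * e = C π * z + ∑ j, b j * g j) :
    incl r N s * incl r N e - C π * (incl r N z + ∑ j, incl r N (b j) * X (yc n N j)) ∈ J := by
  rw [← map_mul, he, map_add, map_mul, map_sum, show incl r N (C π) = C π from rename_C _ _, mul_add,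
    add_sub_add_left_eq_sub, Finset.mul_sum, ← Finset.sum_sub_distrib]
  refine J.sum_mem fun j _ => ?_
  rw [map_mul, show incl r N (b j) * incl r N (g j) - C π * (incl r N (b j) * X (yc n N j)) =
    incl r N (b j) * relH π N g j by simp only [relH]; ring]
  exact J.mul_mem_left _ (hhJ j)

theorem exists_mul_sub_mem (π : R) (φ : MvPolynomial (Fin n) R →ₐ[R] Λ)
    (φ' : MvPolynomial (Fin (n + (r + N))) R →ₐ[R] Λ) (hψ : ∀ p, φ' (incl r N p) = φ p)
    (hπ0 : algebraMap R Λ π ≠ 0) (g : Fin r → MvPolynomial (Fin n) R) (G : Fin N → MvPolynomial (Fin n) R)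
    (J : Ideal (MvPolynomial (Fin (n + (r + N))) R)) (hhJ : ∀ j, relH π N g j ∈ J)
    (sG aG : Fin N → MvPolynomial (Fin n) R) (bG : Fin N → Fin r → MvPolynomial (Fin n) R)
    (hsG : ∀ k, φ (sG k) ∉ maximalIdeal Λ) (hdG : ∀ k, sG k * G k = C π * aG k + ∑ j, bG k j * g j)
    (hvJ : ∀ k, relV (sG k) (aG k) (bG k) k ∈ J) (x : MvPolynomial (Fin (n + (r + N))) R) :
    ∃ t₀, φ t₀ ≠ 0 ∧ ∃ x₀, incl r N t₀ * x - incl r N x₀ ∈ J := by
  induction x using MvPolynomial.induction_on with
  | C a => exact ⟨1, by simp, C a, by simp [incl]⟩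
  | add p q hp hq =>
    obtain ⟨t₀, ht, p₀, hp⟩ := hp
    obtain ⟨t₀', ht', q₀, hq⟩ := hq
    refine ⟨t₀ * t₀', by rw [map_mul]; exact mul_ne_zero ht ht', t₀' * p₀ + t₀ * q₀, ?_⟩
    rw [show incl r N (t₀ * t₀') * (p + q) - incl r N (t₀' * p₀ + t₀ * q₀) =
      incl r N t₀' * (incl r N t₀ * p - incl r N p₀) + incl r N t₀ * (incl r N t₀' * q - incl r N q₀) by
        simp only [map_add, map_mul]; ring]
    exact add_mem (J.mul_mem_left _ hp) (J.mul_mem_left _ hq)
  | mul_X p i hp =>
    obtain ⟨t₀, ht, p₀, hp⟩ := hp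
    obtain ⟨t₀', ht', q₀, hq⟩ : ∃ t₀', φ t₀' ≠ 0 ∧ ∃ q₀, incl r N t₀' * X i - incl r N q₀ ∈ J := by
      refine Fin.addCases (fun l => ?_) (fun i => ?_) i
      · exact ⟨1, by simp, X l, by simp [incl, xc]⟩
      refine Fin.addCases (fun j => ?_) (fun k => ?_) i
      · refine ⟨C π, by rwa [← MvPolynomial.algebraMap_eq, AlgHom.commutes], g j, ?_⟩
        rw [show incl r N (C π) * X (Fin.natAdd n (Fin.castAdd N j)) - incl r N (g j) = -relH π N g j by
          simp only [relH, yc, incl, rename_C]; ring]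
        exact J.neg_mem (hhJ j)
      · refine ⟨C π * sG k, ?_, sG k * G k, ?_⟩
        · rw [map_mul, ← MvPolynomial.algebraMap_eq, AlgHom.commutes]
          exact mul_ne_zero hπ0 fun h0 => hsG k (by rw [h0]; exact zero_mem _)
        have e : incl r N (C π * sG k) * X (Fin.natAdd n (Fin.natAdd r k)) - incl r N (sG k * G k) =
          C π * relV (sG k) (aG k) (bG k) k - (incl r N (sG k) * incl r N (G k) -
            C π * (incl r N (aG k) + ∑ j, incl r N (bG k j) * X (yc n N j))) := by
          simp only [relV, zc, map_mul, show incl r N (C π) = (C π : MvPolynomial (Fin (n + (r + N))) R) from rename_C _ _]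
          ring
        rw [e]
        exact sub_mem (J.mul_mem_left _ (hvJ k)) (incl_lift_mem π g J hhJ _ _ _ _ (hdG k))
    refine ⟨t₀ * t₀', by rw [map_mul]; exact mul_ne_zero ht ht', p₀ * q₀, ?_⟩
    rw [show incl r N (t₀ * t₀') * (p * X i) - incl r N (p₀ * q₀) =
      incl r N t₀' * X i * (incl r N t₀ * p - incl r N p₀) + incl r N p₀ * (incl r N t₀' * X i - incl r N q₀) by
        simp only [map_mul]; ring]
    exact add_mem (J.mul_mem_left _ hp) (J.mul_mem_left _ hq)

/-- Néron's blow-up of a smooth point is smooth. -/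
theorem isSmoothAt_fractions {A B : Type u} [IsLocalRing R] [IsRegularRing R] [IsLocalHom (algebraMap R Λ)]
    [Algebra.IsGeometricallyReduced (ResidueField R) (ResidueField Λ)]
    [CommRing A] [Algebra R A] [Algebra A Λ] [IsScalarTower R A Λ] [Algebra.FiniteType R A] (π : R)
    (hπR : maximalIdeal R = Ideal.span {π})
    (hπΛ : algebraMap R Λ π ≠ 0) (hπm : algebraMap R Λ π ∈ maximalIdeal Λ)
    (hsm : Algebra.IsSmoothAt R ((maximalIdeal Λ).comap (algebraMap A Λ)))
    [CommRing B] [Algebra A B] [Algebra R B] [IsScalarTower R A B]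
    (fr : ∀ x ∈ (maximalIdeal Λ).comap (algebraMap A Λ), B)
    (hfr : ∀ x hx, fr x hx * algebraMap A B (algebraMap R A π) = algebraMap A B x)
    (hreg : ∀ z : B, algebraMap A B (algebraMap R A π) * z = 0 → z = 0)
    (hgen : ∀ P : B → Prop, (∀ r, P (algebraMap A B r)) → (∀ x hx, P (fr x hx)) →
      (∀ x y, P x → P y → P (x + y)) → (∀ x y, P x → P y → P (x * y)) → ∀ z, P z)
    (hker : ∀ x : A, algebraMap A B x = 0 → ∃ m : ℕ, algebraMap R A π ^ m * x = 0)
    (l' : B →ₐ[A] Λ) :
    Algebra.IsSmoothAt R ((maximalIdeal Λ).comap l'.toRingHom) := by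
  classical
  let I : Ideal A := (maximalIdeal Λ).comap (algebraMap A Λ)
  let a : A := algebraMap R A π
  obtain ⟨n, π₀, hπ₀⟩ := Algebra.FiniteType.iff_quotient_mvPolynomial''.1 (inferInstance : Algebra.FiniteType R A)
  let φ := (IsScalarTower.toAlgHom R A Λ).comp π₀
  have hI : ∀ {x}, π₀ x ∈ I ↔ φ x ∈ maximalIdeal Λ := Iff.rfl
  obtain ⟨c, f, D, hf, hspanf, hdetf⟩ := (isSmoothAt_iff_minor π₀ hπ₀ I).1 hsm
  have hfφ : ∀ i, φ (f i) = 0 := fun i => by simp [φ, show π₀ (f i) = 0 from hf i]
  obtain ⟨r, g, H, hgm, hHG, hdec⟩ := exists_conormal π hπR φ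
  obtain ⟨N, G, hG⟩ := Submodule.fg_iff_exists_fin_generating_family.1
    (IsNoetherian.noetherian (I.comap π₀.toRingHom))
  have hGm : ∀ k, φ (G k) ∈ maximalIdeal Λ := fun k => (hG ▸ Submodule.subset_span ⟨k, rfl⟩ : G k ∈ I.comap π₀.toRingHom)
  choose sf af bf hsf hdf using fun i => hdec (f i) (by rw [hfφ]; exact zero_mem _)
  choose sG aG bG hsG hdG using fun k => hdec (G k) (hGm k)
  obtain ⟨π', hY, hZ, hπψ⟩ : ∃ π' : MvPolynomial (Fin (n + (r + N))) R →ₐ[R] B,
      (∀ j, π' (X (yc n N j)) = fr (π₀ (g j)) (hI.2 (hgm j))) ∧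
      (∀ k, π' (X (zc n r k)) = fr (π₀ (G k)) (hI.2 (hGm k))) ∧
      ∀ p, π' (incl r N p) = algebraMap A B (π₀ p) := by
    let π' : MvPolynomial (Fin (n + (r + N))) R →ₐ[R] B :=
      aeval (Fin.append (fun l => algebraMap A B (π₀ (X l)))
        (Fin.append (fun j => fr (π₀ (g j)) (hI.2 (hgm j)))
          (fun k => fr (π₀ (G k)) (hI.2 (hGm k)))))
    refine ⟨π', fun j => by simp [π', yc], fun k => by simp [π', zc], ?_⟩
    have : π'.comp (incl r N) = (IsScalarTower.toAlgHom R A B).comp π₀ := MvPolynomial.algHom_ext fun l => by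
      simp [π', incl, xc]
    exact fun p => AlgHom.congr_fun this p
  let φ' : MvPolynomial (Fin (n + (r + N))) R →ₐ[R] Λ := (l'.restrictScalars R).comp π'
  have hψ : ∀ p, φ' (incl r N p) = φ p := fun p => by
    change l' (π' (incl r N p)) = _
    rw [hπψ, AlgHom.commutes]
    rfl
  have hC : π' (C π) = algebraMap A B a := by
    rw [← MvPolynomial.algebraMap_eq, AlgHom.commutes]
    exact IsScalarTower.algebraMap_apply R A B π
  have hsurj : Function.Surjective π' := by
    refine hgen (fun z => ∃ p, π' p = z) (fun x => ?_) (fun x hx => ?_) ?_ ?_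
    · obtain ⟨x, rfl⟩ := hπ₀ x
      exact ⟨incl r N x, hπψ x⟩
    · obtain ⟨x, rfl⟩ := hπ₀ x
      have hx' : x ∈ Submodule.span (MvPolynomial (Fin n) R) (Set.range G) := hG.symm ▸ hx
      obtain ⟨co, hco⟩ := (Submodule.mem_span_range_iff_exists_fun _).1 hx'
      refine ⟨∑ k, incl r N (co k) * X (zc n r k), ?_⟩
      rw [← sub_eq_zero]
      refine hreg _ ?_
      rw [mul_sub, sub_eq_zero, mul_comm _ (fr (π₀ x) hx), hfr, map_sum, Finset.mul_sum, ← hco]
      simp only [map_sum, smul_eq_mul, map_mul, hπψ, hZ]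
      refine Finset.sum_congr rfl fun k _ => ?_
      rw [← hfr (π₀ (G k)) (hI.2 (hGm k))]
      ring
    · rintro x y ⟨p, rfl⟩ ⟨q, rfl⟩; exact ⟨p + q, map_add _ _ _⟩
    · rintro x y ⟨p, rfl⟩ ⟨q, rfl⟩; exact ⟨p * q, map_mul _ _ _⟩
  have hdecB : ∀ (s e x : MvPolynomial (Fin n) R) (b : Fin r → MvPolynomial (Fin n) R),
      s * e = C π * x + ∑ j, b j * g j →
      π' (incl r N s) * algebraMap A B (π₀ e) =
        algebraMap A B a * π' (incl r N x + ∑ j, incl r N (b j) * X (yc n N j)) := by
    intro s e x b he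
    rw [hπψ, ← map_mul (algebraMap A B), ← map_mul π₀, he]
    simp only [map_add, map_sum, map_mul, hπψ, hY, mul_add, Finset.mul_sum]
    congr 1
    · rw [show π₀ (C π) = a from π₀.commutes π]
    · refine Finset.sum_congr rfl fun j _ => ?_
      rw [← hfr (π₀ (g j)) (hI.2 (hgm j))]
      ring
  let F : Fin (r + (c + N)) → MvPolynomial (Fin (n + (r + N))) R :=
    Fin.append (relH π N g) (Fin.append (fun i => relU N (af i) (bf i)) (fun k => relV (sG k) (aG k) (bG k) k))
  have hF : ∀ i, π' (F i) = 0 := fun i => by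
    refine Fin.addCases (fun j => ?_) (fun i => ?_) i
    · simp only [F, Fin.append_left, relH, map_sub, map_mul, hπψ, hC, hY]
      rw [sub_eq_zero, mul_comm]
      exact (hfr _ _).symm
    · refine Fin.addCases (fun i => ?_) (fun k => ?_) i
      · simp only [F, Fin.append_left, Fin.append_right, relU]
        exact hreg _ (by
          rw [← hdecB (sf i) (f i) (af i) (bf i) (hdf i), show π₀ (f i) = 0 from hf i, map_zero, mul_zero])
      · simp only [F, Fin.append_right, relV]
        refine hreg _ ?_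
        rw [map_sub, mul_sub, map_mul, hZ, ← hdecB (sG k) (G k) (aG k) (bG k) (hdG k), sub_eq_zero,
          ← hfr (π₀ (G k)) (hI.2 (hGm k))]
        ring
  obtain ⟨e, hdet⟩ := exists_det_blowup π hπm φ φ' hψ f D hfφ (fun h0 => hdetf (hI.2 h0)) g H hgm hHG sf af bf
    hsf hdf sG aG bG hsG F rfl
  refine isSmoothAt_closed π' hsurj (l'.restrictScalars R) F hF e hdet fun x hx => ?_
  let J : Ideal (MvPolynomial (Fin (n + (r + N))) R) := Ideal.span (Set.range F)
  have hhJ : ∀ j, relH π N g j ∈ J := fun j => Ideal.subset_span ⟨Fin.castAdd _ j, by simp [F]⟩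
  have huJ : ∀ i, relU N (af i) (bf i) ∈ J := fun i => Ideal.subset_span ⟨Fin.natAdd r (Fin.castAdd _ i), by simp [F]⟩
  have hvJ : ∀ k, relV (sG k) (aG k) (bG k) k ∈ J := fun k =>
    Ideal.subset_span ⟨Fin.natAdd r (Fin.natAdd c k), by simp [F]⟩
  obtain ⟨t₀, ht, x₀, hx₀⟩ := exists_mul_sub_mem π φ φ' hψ hπΛ g G J hhJ sG aG bG hsG hdG hvJ x
  have hJker : ∀ y ∈ J, π' y = 0 := fun y hy =>
    (show J ≤ RingHom.ker π' from Ideal.span_le.2 (by rintro _ ⟨i, rfl⟩; exact hF i)) hy
  have h1 : algebraMap A B (π₀ x₀) = 0 := by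
    have h2 := hJker _ hx₀
    rw [map_sub, map_mul, hx, mul_zero, zero_sub, neg_eq_zero, hπψ] at h2
    exact h2
  obtain ⟨m, hm⟩ := hker _ h1
  have h3 : C π ^ m * x₀ ∈ RingHom.ker π₀.toRingHom := by
    change π₀ (C π ^ m * x₀) = 0
    rw [map_mul, map_pow, show π₀ (C π) = a from π₀.commutes π]
    exact hm
  let p := I.comap π₀.toRingHom
  have h4 := Ideal.mem_map_of_mem (algebraMap _ (Localization.AtPrime p)) h3
  rw [hspanf, show (fun i => algebraMap _ (Localization.AtPrime p) (f i)) =
    algebraMap (MvPolynomial (Fin n) R) (Localization.AtPrime p) ∘ f from rfl, Set.range_comp, ← Ideal.map_span,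
    IsLocalization.algebraMap_mem_map_algebraMap_iff p.primeCompl] at h4
  obtain ⟨s₂, hs₂, hs₂x⟩ := h4
  obtain ⟨d, hd⟩ := Ideal.mem_span_range_iff_exists_fun.1 hs₂x
  let S : MvPolynomial (Fin n) R := ∏ i, sf i
  have hne : ∀ {s}, φ s ∉ maximalIdeal Λ → φ s ≠ 0 := fun h h0 => h (by rw [h0]; exact zero_mem _)
  have hfJ : ∀ i, incl r N S * incl r N (f i) ∈ J := fun i => by
    have hS' : S = (∏ k ∈ Finset.univ.erase i, sf k) * sf i := (Finset.prod_erase_mul _ _ (Finset.mem_univ i)).symm
    rw [hS', map_mul, mul_assoc]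
    refine J.mul_mem_left _ ?_
    have := add_mem (incl_lift_mem π g J hhJ _ _ _ _ (hdf i)) (J.mul_mem_left (C π) (huJ i))
    simpa [relU] using this
  refine ⟨incl r N (S * s₂ * C π ^ m * t₀), ?_, ?_⟩
  · change φ' (incl r N (S * s₂ * C π ^ m * t₀)) ≠ 0
    rw [hψ, map_mul, map_mul, map_mul, map_pow, map_prod, ← MvPolynomial.algebraMap_eq, AlgHom.commutes]
    exact mul_ne_zero (mul_ne_zero (mul_ne_zero (Finset.prod_ne_zero_iff.2 fun i _ => hne (hsf i))
      (hne fun h => hs₂ (hI.2 h))) (pow_ne_zero _ hπΛ)) ht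
  · rw [show incl r N (S * s₂ * C π ^ m * t₀) * x =
        incl r N (S * s₂ * C π ^ m) * (incl r N t₀ * x - incl r N x₀) + incl r N S * incl r N (∑ i, d i * f i) by
          rw [hd]; simp only [map_mul]; ring]
    refine add_mem (J.mul_mem_left _ hx₀) ?_
    rw [map_sum, Finset.mul_sum]
    refine J.sum_mem fun i _ => ?_
    rw [map_mul, mul_left_comm]
    exact J.mul_mem_left _ (hfJ i)

/-- The blow-up algebra satisfies the hypotheses. -/
theorem isSmoothAt_affineAlgebra {A : Type u} [IsLocalRing R] [IsRegularRing R] [IsLocalHom (algebraMap R Λ)]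
    [Algebra.IsGeometricallyReduced (ResidueField R) (ResidueField Λ)]
    [CommRing A] [Algebra R A] [Algebra A Λ] [IsScalarTower R A Λ] [Algebra.FiniteType R A] (π : R)
    (hπR : maximalIdeal R = Ideal.span {π})
    (hπΛ : algebraMap R Λ π ≠ 0) (hπm : algebraMap R Λ π ∈ maximalIdeal Λ)
    (hsm : Algebra.IsSmoothAt R ((maximalIdeal Λ).comap (algebraMap A Λ)))
    (l' : BlowUp.affineAlgebra A ((maximalIdeal Λ).comap (algebraMap A Λ)) (algebraMap R A π) →ₐ[A] Λ) :
    Algebra.IsSmoothAt R ((maximalIdeal Λ).comap l'.toRingHom) := by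
  let I : Ideal A := (maximalIdeal Λ).comap (algebraMap A Λ)
  let a : A := algebraMap R A π
  have hreg : ∀ z : BlowUp.affineAlgebra A I a, algebraMap A _ a * z = 0 → z = 0 := fun z hz =>
    by
    have h1 := mem_nonZeroDivisors_iff_right.1 (BlowChartLib.mem_nonZeroDivisors (I := I) (a := a)) z
    exact h1 ((mul_comm _ _).trans hz)
  have hker : ∀ x : A, algebraMap A (BlowUp.affineAlgebra A I a) x = 0 → ∃ m : ℕ, a ^ m * x = 0 := fun x hx => by
    obtain ⟨⟨_, m, rfl⟩, hm⟩ := (IsLocalization.map_eq_zero_iff (Submonoid.powers a) (Localization.Away a) _).1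
      (show algebraMap A (Localization.Away a) x = 0 from congrArg Subtype.val hx)
    exact ⟨m, hm⟩
  exact @isSmoothAt_fractions R Λ _ _ _ _ _ A (BlowUp.affineAlgebra A I a) _ _ _ _ _ _ _ _ _ π hπR hπΛ hπm hsm
    _ _ _ _ (fun x hx => BlowChartLib.frac x hx) (fun x hx => BlowChartLib.frac_mul x hx)
    hreg (fun _ h1 h2 h3 h4 z => BlowChartLib.induction_frac h1 h2 h3 h4 z) hker l'

end Groth.Agent.NeronLib
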