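import Mathlib
import Groth.Agent.NeronLib.SmoothPoint

/-! Free differentials along a point with values in a discrete valuation ring give smoothness. -/

set_option autoImplicit false
universe u

noncomputable section

namespace Groth.Agent.NeronLib

open MvPolynomial IsLocalRing TensorProduct

/-- Coefficients of a minimal generating family of a submodule, modulo the maximal ideal. -/
theorem mem_maximalIdeal_of_minimal {Λ V : Type u} [CommRing Λ] [IsLocalRing Λ] [AddCommGroup V] [Module Λ V]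
    {c : ℕ} (w : Fin c → V) (hmin : ∀ i₀, w i₀ ∉ Submodule.span Λ (w '' {i | i ≠ i₀}))
    {ϖ : Λ} (hϖ : ϖ ∈ maximalIdeal Λ) (a : Fin c → Λ) {v : V} (hv : v ∈ Submodule.span Λ (Set.range w))
    (heq : ∑ i, a i • w i = ϖ • v) (i₀ : Fin c) : a i₀ ∈ maximalIdeal Λ := by
  classical
  by_contra hi₀
  obtain ⟨μ, hμ⟩ := (Submodule.mem_span_range_iff_exists_fun Λ).1 hv
  have hu : IsUnit (a i₀ - ϖ * μ i₀) := by
    have h1 : a i₀ - ϖ * μ i₀ ∉ maximalIdeal Λ := fun h => hi₀ (by
      simpa using add_mem h ((maximalIdeal Λ).mul_mem_right (μ i₀) hϖ))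
    simpa using h1
  have hz : ∑ i, (a i - ϖ * μ i) • w i = 0 := by
    simp only [sub_smul, Finset.sum_sub_distrib, mul_smul, ← Finset.smul_sum, hμ, heq, sub_self]
  rw [← Finset.add_sum_erase _ _ (Finset.mem_univ i₀)] at hz
  refine hmin i₀ ?_
  obtain ⟨u, hu'⟩ := hu
  have h2 : (u : Λ) • w i₀ ∈ Submodule.span Λ (w '' {i | i ≠ i₀}) := by
    rw [hu', eq_neg_of_add_eq_zero_left hz]
    exact Submodule.neg_mem _ (Submodule.sum_mem _ fun i hi => Submodule.smul_mem _ _
      (Submodule.subset_span ⟨i, Finset.ne_of_mem_erase hi, rfl⟩))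
  simpa [smul_smul] using Submodule.smul_mem _ (↑u⁻¹ : Λ) h2

variable {R Λ A : Type u} [CommRing R] [CommRing A] [Algebra R A] [CommRing Λ] [Algebra R Λ] [Algebra A Λ]
  [IsScalarTower R A Λ] {n : ℕ} (π : MvPolynomial (Fin n) R →ₐ[R] A)

/-- Gradients of all relations of the presentation. -/
def relJac : Submodule Λ (Fin n → Λ) :=
  Submodule.span Λ (grad ((IsScalarTower.toAlgHom R A Λ).comp π) '' (RingHom.ker π.toRingHom : Set (MvPolynomial (Fin n) R)))

theorem mk_grad_eq {x y : MvPolynomial (Fin n) R} (h : π x = π y) :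
    (relJac (Λ := Λ) π).mkQ (grad ((IsScalarTower.toAlgHom R A Λ).comp π) x) =
      (relJac (Λ := Λ) π).mkQ (grad ((IsScalarTower.toAlgHom R A Λ).comp π) y) := by
  rw [← sub_eq_zero, ← map_sub, ← grad_sub, Submodule.mkQ_apply, Submodule.Quotient.mk_eq_zero]
  exact Submodule.subset_span ⟨x - y, show π (x - y) = 0 by rw [map_sub, h, sub_self], rfl⟩

/-- A derivation of `A` sending the variables to the coordinate vectors. -/
theorem exists_gradDerivation (hπ : Function.Surjective π) :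
    ∃ d : Derivation R A ((Fin n → Λ) ⧸ relJac (Λ := Λ) π),
      ∀ x, d (π x) = (relJac (Λ := Λ) π).mkQ (grad ((IsScalarTower.toAlgHom R A Λ).comp π) x) := by
  let σ : A → MvPolynomial (Fin n) R := Function.surjInv hπ
  have hσ : ∀ b, π (σ b) = b := Function.surjInv_eq hπ
  let φ := (IsScalarTower.toAlgHom R A Λ).comp π
  let q := (relJac (Λ := Λ) π).mkQ
  let dl : A →ₗ[R] (Fin n → Λ) ⧸ relJac (Λ := Λ) π :=
    { toFun := fun b => q (grad φ (σ b))
      map_add' := fun b b' => by
        rw [show q (grad φ (σ (b + b'))) = _ from mk_grad_eq π (y := σ b + σ b') (by rw [map_add, hσ, hσ, hσ]),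
          grad_add, map_add]
      map_smul' := fun r b => by
        rw [show q (grad φ (σ (r • b))) = _ from mk_grad_eq π (y := C r * σ b)
            (by rw [map_mul, hσ, hσ, ← MvPolynomial.algebraMap_eq, AlgHom.commutes, Algebra.smul_def]),
          grad_C_mul, map_smul, algebraMap_smul, RingHom.id_apply] }
  refine ⟨Derivation.mk' dl fun b b' => ?_, fun x => mk_grad_eq π (hσ _)⟩
  change q (grad φ (σ (b * b'))) = b • q (grad φ (σ b')) + b' • q (grad φ (σ b))
  rw [show q (grad φ (σ (b * b'))) = _ from mk_grad_eq π (y := σ b * σ b') (by rw [map_mul, hσ, hσ, hσ]),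
    grad_mul, map_add, map_smul, map_smul]
  simp only [φ, AlgHom.comp_apply, hσ, IsScalarTower.coe_toAlgHom', algebraMap_smul]
  rfl

theorem mem_relJac_of_smul_mem [IsDomain Λ] (hπ : Function.Surjective π)
    (hfree : Module.Free Λ (Λ ⊗[A] KaehlerDifferential R A)) {a : Λ} (ha : a ≠ 0) {v : Fin n → Λ}
    (hv : a • v ∈ relJac (Λ := Λ) π) : v ∈ relJac (Λ := Λ) π := by
  classical
  obtain ⟨d, hd⟩ := exists_gradDerivation (Λ := Λ) π hπ
  let φ := (IsScalarTower.toAlgHom R A Λ).comp π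
  let Ψ : Λ ⊗[A] KaehlerDifferential R A →ₗ[Λ] (Fin n → Λ) ⧸ relJac (Λ := Λ) π :=
    d.liftKaehlerDifferential.liftBaseChange Λ
  let dX : Fin n → Λ ⊗[A] KaehlerDifferential R A := fun l => 1 ⊗ₜ KaehlerDifferential.D R A (π (X l))
  let Φ : (Fin n → Λ) →ₗ[Λ] Λ ⊗[A] KaehlerDifferential R A := Fintype.linearCombination Λ dX
  have hΦgrad : ∀ x, Φ (grad φ x) = (1 : Λ) ⊗ₜ KaehlerDifferential.D R A (π x) := by
    intro x
    induction x using MvPolynomial.induction_on with
    | C r => rw [grad_C, map_zero, ← MvPolynomial.algebraMap_eq, AlgHom.commutes, Derivation.map_algebraMap, tmul_zero]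
    | add p q hp hq => rw [grad_add, map_add, hp, hq, map_add, map_add, tmul_add]
    | mul_X p i hp =>
      rw [grad_mul, map_add, map_smul, map_smul, hp, grad_X, Fintype.linearCombination_apply_single, one_smul,
        map_mul, Derivation.leibniz, tmul_add]
      simp only [φ, dX, AlgHom.comp_apply, IsScalarTower.coe_toAlgHom', algebraMap_smul, tmul_smul]
  have hΨΦ : ∀ w, Ψ (Φ w) = (relJac (Λ := Λ) π).mkQ w := fun w => by
    have h1 : Ψ ∘ₗ Φ = (relJac (Λ := Λ) π).mkQ := by
      refine LinearMap.pi_ext' fun l => LinearMap.ext_ring ?_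
      simp only [LinearMap.comp_apply, LinearMap.single_apply]
      rw [Fintype.linearCombination_apply_single, one_smul]
      simp only [Ψ, dX, LinearMap.liftBaseChange_tmul, one_smul, Derivation.liftKaehlerDifferential_comp_D]
      rw [hd, grad_X]
    exact LinearMap.congr_fun h1 w
  have h0 : ∀ w ∈ relJac (Λ := Λ) π, Φ w = 0 := fun w hw => by
    refine (show relJac (Λ := Λ) π ≤ LinearMap.ker Φ from Submodule.span_le.2 ?_) hw
    rintro _ ⟨x, hx, rfl⟩
    rw [SetLike.mem_coe, LinearMap.mem_ker, hΦgrad, show π x = 0 from hx, map_zero, tmul_zero]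
  haveI := hfree
  have h2 : Φ v = 0 := (smul_eq_zero.1 (by rw [← map_smul, h0 _ hv])).resolve_left ha
  rw [← Submodule.Quotient.mk_eq_zero, ← Submodule.mkQ_apply, ← hΨΦ, h2, map_zero]

theorem isSmoothAt_of_free [IsRegularRing R] [IsDomain Λ] [IsDiscreteValuationRing Λ]
    [Algebra.FiniteType R A] [(RingHom.ker (algebraMap A Λ)).IsPrime]
    (hq : Algebra.IsSmoothAt R (RingHom.ker (algebraMap A Λ)))
    (hfree : Module.Free Λ (Λ ⊗[A] KaehlerDifferential R A)) :
    Algebra.IsSmoothAt R ((maximalIdeal Λ).comap (algebraMap A Λ)) := by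
  classical
  haveI : IsNoetherianRing R := inferInstance
  obtain ⟨n, π, hπ⟩ := Algebra.FiniteType.iff_quotient_mvPolynomial''.1 (inferInstance : Algebra.FiniteType R A)
  let l := IsScalarTower.toAlgHom R A Λ
  let φ := l.comp π
  let I := RingHom.ker π.toRingHom
  have hex : ∃ c, ∃ f : Fin c → MvPolynomial (Fin n) R, (∀ i, π (f i) = 0) ∧
      relJac (Λ := Λ) π ≤ Submodule.span Λ (Set.range fun i => grad φ (f i)) := by
    obtain ⟨c, f, hf⟩ := Submodule.fg_iff_exists_fin_generating_family.1 (IsNoetherian.noetherian I)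
    have hfk : ∀ i, π (f i) = 0 := fun i => (hf ▸ Submodule.subset_span ⟨i, rfl⟩ : f i ∈ I)
    refine ⟨c, f, hfk, Submodule.span_le.2 ?_⟩
    rintro _ ⟨x, hx, rfl⟩
    have hx' : x ∈ Ideal.span (Set.range f) := by
      rw [show Ideal.span (Set.range f) = I from hf]; exact hx
    obtain ⟨a, rfl⟩ := Ideal.mem_span_range_iff_exists_fun.1 hx'
    rw [grad_sum]
    refine Submodule.sum_mem _ fun i _ => ?_
    rw [grad_mul, show φ (f i) = 0 by simp [φ, hfk], zero_smul, add_zero]
    exact Submodule.smul_mem _ _ (Submodule.subset_span ⟨i, rfl⟩)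
  obtain ⟨f, hf, hspan⟩ := Nat.find_spec hex
  have hmin : ∀ i₀, grad φ (f i₀) ∉ Submodule.span Λ ((fun i => grad φ (f i)) '' {i | i ≠ i₀}) := by
    intro i₀ hi
    have hc : 0 < Nat.find hex := lt_of_le_of_lt (Nat.zero_le _) i₀.2
    obtain ⟨c', hc'⟩ : ∃ c', Nat.find hex = c' + 1 := ⟨_, (Nat.succ_pred_eq_of_pos hc).symm⟩
    let emb : Fin c' → Fin (Nat.find hex) := fun j => Fin.cast hc'.symm ((Fin.cast hc' i₀).succAbove j)
    refine Nat.find_min hex (show c' < _ by omega) ⟨fun j => f (emb j), fun j => hf _, hspan.trans (Submodule.span_le.2 ?_)⟩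
    have hne : ∀ i, i ≠ i₀ → grad φ (f i) ∈ Submodule.span Λ (Set.range fun j => grad φ (f (emb j))) := fun i hi => by
      obtain ⟨j, hj⟩ := Fin.exists_succAbove_eq (x := Fin.cast hc' i) (y := Fin.cast hc' i₀) (by
        simpa [Fin.ext_iff] using fun h => hi (Fin.ext h))
      exact Submodule.subset_span ⟨j, by simp [emb, hj]⟩
    rintro _ ⟨i, rfl⟩
    by_cases h : i = i₀
    · subst h
      refine (Submodule.span_le.2 ?_ : _ ≤ _) hi
      rintro _ ⟨k, hk, rfl⟩
      exact hne k hk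
    · exact hne i h
  rcases dichotomy φ f with ⟨e, hdet⟩ | ⟨a, ⟨i₀, hi₀⟩, hdep⟩
  · haveI : (RingHom.ker l.toRingHom).IsPrime := RingHom.ker_isPrime _
    exact isSmoothAt_closed π hπ l f hf e hdet fun x hx =>
      exists_mul_mem_span π hπ l hq f hf (fun y hy => hspan (Submodule.subset_span ⟨y, hy, rfl⟩)) e hdet hx
  · obtain ⟨ϖ, hϖ⟩ := IsDiscreteValuationRing.exists_irreducible Λ
    have hm : maximalIdeal Λ = Ideal.span {ϖ} := hϖ.maximalIdeal_eq
    have hy : ∀ j, ∃ y, y * ϖ = (∑ i, φ (a i) • grad φ (f i)) j := fun j =>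
      Ideal.mem_span_singleton'.1 (hm ▸ hdep j)
    choose y hy using hy
    have heq : ∑ i, φ (a i) • grad φ (f i) = ϖ • y := funext fun j => by
      rw [Pi.smul_apply, smul_eq_mul, mul_comm, hy]
    have hmem : ϖ • y ∈ relJac (Λ := Λ) π := heq ▸ Submodule.sum_mem _ fun i _ =>
      Submodule.smul_mem _ _ (Submodule.subset_span ⟨f i, hf i, rfl⟩)
    exact absurd (mem_maximalIdeal_of_minimal (fun i => grad φ (f i)) hmin
      (hm ▸ Ideal.mem_span_singleton_self ϖ) (fun i => φ (a i))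
      (hspan (mem_relJac_of_smul_mem π hπ hfree hϖ.ne_zero hmem)) heq i₀) hi₀

end Groth.Agent.NeronLib
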