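import Mathlib
import Groth.Agent.NeronLib.Dichotomy

/-! Néron's blow-up lowers the defect. -/

set_option autoImplicit false
universe u

noncomputable section

namespace Groth.Agent.NeronLib

open MvPolynomial IsLocalRing

variable {R Λ : Type u} [CommRing R] [IsLocalRing R] [IsNoetherianRing R] [CommRing Λ] [IsDomain Λ]
  [IsDiscreteValuationRing Λ] [Algebra R Λ] [IsLocalHom (algebraMap R Λ)]
  [Algebra.IsGeometricallyReduced (ResidueField R) (ResidueField Λ)]

theorem exists_blowup (π : R) (hπR : maximalIdeal R = Ideal.span {π})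
    (hπΛ : maximalIdeal Λ = Ideal.span {algebraMap R Λ π}) {n : ℕ}
    (φ : MvPolynomial (Fin n) R →ₐ[R] Λ) {c : ℕ} (f : Fin c → MvPolynomial (Fin n) R)
    (hf : ∀ i, φ (f i) = 0)
    (hspan : jac φ = Submodule.span Λ (Set.range fun i => grad φ (f i)))
    (hmin : ∀ (c' : ℕ) (f' : Fin c' → MvPolynomial (Fin n) R), (∀ i, φ (f' i) = 0) →
        jac φ = Submodule.span Λ (Set.range fun i => grad φ (f' i)) → c ≤ c')
    (a : Fin c → MvPolynomial (Fin n) R) (hunit : ∃ i, φ (a i) ∉ maximalIdeal Λ)
    (hdep : ∀ l, (∑ i, φ (a i) • grad φ (f i)) l ∈ maximalIdeal Λ) :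
    ∃ (n' : ℕ) (φ' : MvPolynomial (Fin n') R →ₐ[R] Λ)
      (ψ : MvPolynomial (Fin n) R →ₐ[R] MvPolynomial (Fin n') R),
      φ'.comp ψ = φ ∧ defect (jac φ') < defect (jac φ) := by
  classical
  obtain ⟨r, g, H, hgm, hHG, hdec⟩ := exists_conormal π hπR φ
  let ϖ : Λ := algebraMap R Λ π
  have hϖ : ϖ ≠ 0 := fun h => IsDiscreteValuationRing.not_a_field Λ (by
    rw [hπΛ, show algebraMap R Λ π = 0 from h, Ideal.span_singleton_eq_bot])
  have hmem : ∀ {x : Λ}, x ∈ maximalIdeal Λ → ∃ y, x = ϖ * y := fun {x} hx => by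
    rw [hπΛ, Ideal.mem_span_singleton'] at hx
    obtain ⟨y, rfl⟩ := hx
    exact ⟨y, mul_comm _ _⟩
  choose y hy using fun j => hmem (hgm j)
  let φ' : MvPolynomial (Fin (n + r)) R →ₐ[R] Λ := aeval (Fin.append (fun l => φ (X l)) y)
  let ψ : MvPolynomial (Fin n) R →ₐ[R] MvPolynomial (Fin (n + r)) R := rename (Fin.castAdd r)
  have hcomp : φ'.comp ψ = φ := MvPolynomial.algHom_ext fun l => by simp [φ', ψ]
  have hψ : ∀ p, φ' (ψ p) = φ p := fun p => AlgHom.congr_fun hcomp p
  refine ⟨n + r, φ', ψ, hcomp, ?_⟩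
  let Y : Fin r → MvPolynomial (Fin (n + r)) R := fun j => X (Fin.natAdd n j)
  have hY : ∀ j, φ' (Y j) = y j := fun j => by simp [φ', Y]
  let h : Fin r → MvPolynomial (Fin (n + r)) R := fun j => ψ (g j) - C π * Y j
  have hh : ∀ j, φ' (h j) = 0 := fun j => by
    simp only [h, map_sub, map_mul, hψ, hY, ← MvPolynomial.algebraMap_eq, AlgHom.commutes]
    rw [hy j, sub_self]
  -- linear algebra
  let E : (Fin n → Λ) →ₗ[Λ] (Fin (n + r) → Λ) :=
    { toFun := fun x => Fin.append x 0
      map_add' := fun x x' => funext fun i => by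
        refine Fin.addCases (fun l => ?_) (fun k => ?_) i <;> simp
      map_smul' := fun c x => funext fun i => by
        refine Fin.addCases (fun l => ?_) (fun k => ?_) i <;> simp }
  have hEl : ∀ x l, E x (Fin.castAdd r l) = x l := fun x l => Fin.append_left _ _ _
  have hEr : ∀ x k, E x (Fin.natAdd n k) = 0 := fun x k => Fin.append_right _ _ _
  have hgψ : ∀ p, grad φ' (ψ p) = E (grad φ p) := by
    intro p
    induction p using MvPolynomial.induction_on with
    | C c => simp only [ψ, rename_C, grad_C, map_zero]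
    | add p q hp hq => rw [map_add, grad_add, grad_add, map_add, hp, hq]
    | mul_X p i hp =>
      rw [map_mul, grad_mul, grad_mul, map_add, map_smul, map_smul, hψ, hψ, hp]
      congr 1
      congr 1
      simp only [ψ, rename_X, grad_X]
      funext k
      refine Fin.addCases (fun l => ?_) (fun k => ?_) k
      · rw [hEl]; simp [Pi.single_apply]
      · rw [hEr]
        have hne : Fin.natAdd n k ≠ Fin.castAdd r i := fun h => by
          have := congrArg Fin.val h
          simp at this
          omega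
        rw [Pi.single_eq_of_ne hne]
  let u : Fin r → Fin (n + r) → Λ := fun j => grad φ' (h j)
  have hu : ∀ j, u j = E (grad φ (g j)) - ϖ • Pi.single (Fin.natAdd n j) 1 := fun j => by
    simp only [u, h, grad_sub, hgψ, grad_C_mul, Y, grad_X, ϖ]
  let Hh : (Fin (n + r) → Λ) →ₗ[Λ] (Fin r → Λ) :=
    LinearMap.pi fun k => ∑ l, H k l • LinearMap.proj (Fin.castAdd r l)
  have hHh : ∀ z k, Hh z k = ∑ l, H k l * z (Fin.castAdd r l) := fun z k => by simp [Hh]
  let U : (Fin r → Λ) →ₗ[Λ] (Fin (n + r) → Λ) := Fintype.linearCombination Λ u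
  let P : (Fin (n + r) → Λ) →ₗ[Λ] (Fin (n + r) → Λ) := LinearMap.id - U ∘ₗ Hh
  have hHu : ∀ j, Hh (u j) = Pi.single j 1 := fun j => funext fun k => by
    rw [hHh, Pi.single_apply]
    refine Eq.trans (Finset.sum_congr rfl fun l _ => ?_) (hHG k j)
    have hne : Fin.castAdd r l ≠ Fin.natAdd n j := fun h => by
      have := congrArg Fin.val h
      simp at this
      omega
    rw [hu, Pi.sub_apply, Pi.smul_apply, hEl, Pi.single_eq_of_ne hne, smul_zero, sub_zero]
  have hUapp : ∀ w, U w = ∑ j, w j • u j := fun w => Fintype.linearCombination_apply Λ u w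
  have hHU : ∀ w, Hh (U w) = w := fun w => by
    rw [hUapp, map_sum]
    simp only [map_smul, hHu]
    exact (pi_eq_sum_univ' w).symm
  have hPz : ∀ z, P z = z - U (Hh z) := fun z => rfl
  have hPu : ∀ j, P (u j) = 0 := fun j => by
    rw [hPz, hHu, hUapp, Finset.sum_eq_single j (fun k _ hk => by simp [Pi.single_eq_of_ne hk]) (by simp)]
    simp
  have hPP : ∀ z, P (P z) = P z := fun z => by
    have : Hh (P z) = 0 := by rw [hPz, map_sub, hHU, sub_self]
    rw [hPz (P z), this, map_zero, sub_zero]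
  let ι : (Fin n → Λ) →ₗ[Λ] (Fin (n + r) → Λ) := P ∘ₗ E
  have hι : Function.Injective ι := by
    rw [injective_iff_map_eq_zero]
    intro x hx
    have hx' : E x = U (Hh (E x)) := sub_eq_zero.1 ((hPz _).symm.trans hx)
    have h0 : Hh (E x) = 0 := funext fun k => by
      have h1 := congrFun hx' (Fin.natAdd n k)
      rw [hEr, hUapp, Finset.sum_apply] at h1
      rw [Finset.sum_eq_single k] at h1
      · rw [Pi.smul_apply, hu, Pi.sub_apply, hEr, Pi.smul_apply, Pi.single_eq_same] at h1
        simp only [zero_sub, smul_eq_mul, mul_one, mul_neg] at h1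
        exact (mul_eq_zero.1 (neg_eq_zero.1 h1.symm)).resolve_right hϖ
      · intro j _ hj
        have hne : Fin.natAdd n k ≠ Fin.natAdd n j := fun h => hj ((Fin.natAdd_injective _ _) h).symm
        rw [Pi.smul_apply, hu, Pi.sub_apply, hEr, Pi.smul_apply, Pi.single_eq_of_ne hne]
        simp
      · simp
    rw [h0, map_zero] at hx'
    funext l
    rw [← hEl x l, hx']
    rfl
  -- congruences modulo the relations `h`
  let J : Ideal (MvPolynomial (Fin (n + r)) R) := Ideal.span (Set.range h)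
  have hJ : ∀ F ∈ J, φ' F = 0 ∧ P (grad φ' F) = 0 := by
    intro F hF
    obtain ⟨w, rfl⟩ := Ideal.mem_span_range_iff_exists_fun.1 hF
    refine ⟨by simp [hh], ?_⟩
    rw [grad_sum, map_sum]
    refine Finset.sum_eq_zero fun j _ => ?_
    rw [grad_mul, hh, zero_smul, add_zero, map_smul, show grad φ' (h j) = u j from rfl, hPu, smul_zero]
  have hcong : ∀ F G, F - G ∈ J → φ' F = φ' G ∧ P (grad φ' F) = P (grad φ' G) := fun F G hFG => by
    obtain ⟨h1, h2⟩ := hJ _ hFG
    rw [map_sub, sub_eq_zero] at h1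
    rw [grad_sub, map_sub, sub_eq_zero] at h2
    exact ⟨h1, h2⟩
  -- lifting of a decomposition
  have hlift : ∀ (s e : MvPolynomial (Fin n) R) (a : MvPolynomial (Fin n) R) (b : Fin r → MvPolynomial (Fin n) R),
      s * e = C π * a + ∑ j, b j * g j →
      ψ s * ψ e - C π * (ψ a + ∑ j, ψ (b j) * Y j) ∈ J := by
    intro s e a b hse
    rw [← map_mul, hse, map_add, map_mul, map_sum, show ψ (C π) = C π from rename_C _ _, mul_add, add_sub_add_left_eq_sub,
      Finset.mul_sum, ← Finset.sum_sub_distrib]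
    refine J.sum_mem fun j _ => ?_
    rw [map_mul, show ψ (b j) * ψ (g j) - C π * (ψ (b j) * Y j) = ψ (b j) * h j by simp only [h]; ring]
    exact J.mul_mem_left _ (Ideal.subset_span ⟨j, rfl⟩)
  have hzero : ∀ F, ϖ * φ' F = 0 → φ' F = 0 := fun F h => (mul_eq_zero.1 h).resolve_left hϖ
  refine defect_lt ϖ hϖ ι hι P (fun x => hPP _) (fun z => ?_) (jac φ) (jac φ') (fun z => ?_) ?_ ?_ ?_
  · refine ⟨ϖ • (fun l => z (Fin.castAdd r l)) + ∑ k, z (Fin.natAdd n k) • grad φ (g k), ?_⟩
    have he : E (ϖ • (fun l => z (Fin.castAdd r l)) + ∑ k, z (Fin.natAdd n k) • grad φ (g k)) =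
        ϖ • z + ∑ k, z (Fin.natAdd n k) • u k := by
      funext i
      refine Fin.addCases (fun l => ?_) (fun k => ?_) i
      · simp only [hEl, Pi.add_apply, Pi.smul_apply, Finset.sum_apply, hu, Pi.sub_apply]
        congr 1
        refine Finset.sum_congr rfl fun k _ => ?_
        have hne : Fin.castAdd r l ≠ Fin.natAdd n k := fun h => by
          have := congrArg Fin.val h
          simp at this
          omega
        rw [Pi.single_eq_of_ne hne, smul_zero, sub_zero]
      · simp only [hEr, Pi.add_apply, Pi.smul_apply, Finset.sum_apply, hu, Pi.sub_apply, zero_sub,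
          smul_eq_mul, mul_neg]
        rw [Finset.sum_eq_single k]
        · simp; ring
        · intro j _ hj
          have hne : Fin.natAdd n k ≠ Fin.natAdd n j := fun h => hj ((Fin.natAdd_injective _ _) h).symm
          simp [Pi.single_eq_of_ne hne]
        · simp
    change P (E _) = _
    rw [he, map_add, map_smul, map_sum]
    simp [map_smul, hPu]
  · rw [hPz, sub_sub_cancel, hUapp]
    exact Submodule.sum_mem _ fun j _ => Submodule.smul_mem _ _ (grad_mem_jac φ' (hh j))
  · -- every relation is, up to a power of `π`, an old one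
    have key : ∀ F, ∃ (N : ℕ) (F0 : MvPolynomial (Fin n) R), C π ^ N * F - ψ F0 ∈ J := by
      intro F
      induction F using MvPolynomial.induction_on with
      | C c => exact ⟨0, C c, by simp [ψ]⟩
      | add p q hp hq =>
        obtain ⟨N, p0, hp⟩ := hp
        obtain ⟨M, q0, hq⟩ := hq
        refine ⟨N + M, C π ^ M * p0 + C π ^ N * q0, ?_⟩
        have e : C π ^ (N + M) * (p + q) - ψ (C π ^ M * p0 + C π ^ N * q0) =
            C π ^ M * (C π ^ N * p - ψ p0) + C π ^ N * (C π ^ M * q - ψ q0) := by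
          simp only [map_add, map_mul, map_pow, ψ, rename_C, pow_add]; ring
        rw [e]
        exact J.add_mem (J.mul_mem_left _ hp) (J.mul_mem_left _ hq)
      | mul_X p i hp =>
        obtain ⟨N, p0, hp⟩ := hp
        refine Fin.addCases (fun l => ?_) (fun k => ?_) i
        · refine ⟨N, p0 * X l, ?_⟩
          have e : C π ^ N * (p * X (Fin.castAdd r l)) - ψ (p0 * X l) =
              X (Fin.castAdd r l) * (C π ^ N * p - ψ p0) := by
            simp only [map_mul, ψ, rename_X]; ring
          rw [e]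
          exact J.mul_mem_left _ hp
        · refine ⟨N + 1, p0 * g k, ?_⟩
          have e : C π ^ (N + 1) * (p * X (Fin.natAdd n k)) - ψ (p0 * g k) =
              C π * X (Fin.natAdd n k) * (C π ^ N * p - ψ p0) - ψ p0 * h k := by
            simp only [map_mul, pow_succ, h, Y]; ring
          rw [e]
          exact J.sub_mem (J.mul_mem_left _ hp) (J.mul_mem_left _ (Ideal.subset_span ⟨k, rfl⟩))
    have hle : jac φ' ≤ (sat ((jac φ).map ι)).comap P := by
      rw [jac, Submodule.span_le]
      rintro _ ⟨F, hF, rfl⟩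
      obtain ⟨N, F0, hN⟩ := key F
      obtain ⟨h1, h2⟩ := hcong _ _ hN
      have hF' : φ' F = 0 := hF
      rw [map_mul, hF', mul_zero, hψ] at h1
      rw [grad_mul, hF', zero_smul, add_zero, map_smul, map_pow, ← MvPolynomial.algebraMap_eq,
        AlgHom.commutes, hgψ] at h2
      refine mem_sat.2 ⟨ϖ ^ N, pow_ne_zero _ hϖ, ?_⟩
      rw [h2]
      exact ⟨_, grad_mem_jac φ h1.symm, rfl⟩
    exact fun z hz => mem_sat.1 (hle hz)
  · -- divisibility
    intro x hx
    induction hx using Submodule.span_induction with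
    | mem x hx =>
      obtain ⟨e, he, rfl⟩ := hx
      have he' : φ e = 0 := he
      obtain ⟨s, a', b, hs, hse⟩ := hdec e (by rw [he']; exact zero_mem _)
      obtain ⟨v, hv⟩ : IsUnit (φ s) := by simpa using hs
      let f1 := ψ a' + ∑ j, ψ (b j) * Y j
      obtain ⟨h1, h2⟩ := hcong _ _ (hlift s e a' b hse)
      rw [map_mul, hψ, hψ, he', mul_zero, map_mul, ← MvPolynomial.algebraMap_eq, AlgHom.commutes] at h1
      have hf1 : φ' f1 = 0 := hzero _ h1.symm
      rw [grad_mul, hψ, hψ, he', zero_smul, add_zero, grad_C_mul, map_smul, map_smul, hgψ] at h2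
      refine ⟨(↑v⁻¹ : Λ) • grad φ' f1, Submodule.smul_mem _ _ (grad_mem_jac φ' hf1), ?_⟩
      rw [map_smul, smul_comm]
      change _ • ϖ • P (grad φ' f1) = _
      rw [← h2, smul_smul, ← hv, Units.inv_mul, one_smul]
      rfl
    | zero => exact ⟨0, zero_mem _, by simp⟩
    | add x x' _ _ hx hx' =>
      obtain ⟨z, hz, e⟩ := hx
      obtain ⟨z', hz', e'⟩ := hx'
      exact ⟨z + z', add_mem hz hz', by rw [map_add, smul_add, e, e', map_add]⟩
    | smul t x _ hx =>
      obtain ⟨z, hz, e⟩ := hx
      exact ⟨t • z, Submodule.smul_mem _ _ hz, by rw [map_smul, map_smul, smul_comm, e]⟩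
  · -- strictness
    let e := ∑ i, a i * f i
    have he : φ e = 0 := by simp [e, hf]
    have hge : grad φ e = ∑ i, φ (a i) • grad φ (f i) := by
      simp only [e, grad_sum, grad_mul, hf, zero_smul, add_zero]
    clear_value e
    obtain ⟨i₀, hi₀⟩ := hunit
    refine ⟨grad φ e, grad_mem_jac φ he, fun m hm => ?_, ?_⟩
    · rw [hge]
      exact not_smul_mem_of_minimal φ ϖ (hπΛ ▸ Ideal.mem_span_singleton_self _) f hf hspan hmin _ i₀ hi₀ m hm
    obtain ⟨s, a', b, hs, hse⟩ := hdec e (by rw [he]; exact zero_mem _)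
    have hval : ∀ p q : MvPolynomial (Fin n) R, grad φ (p * q) = φ p • grad φ q + φ q • grad φ p :=
      grad_mul φ
    have hb : ∀ j, φ (b j) ∈ maximalIdeal Λ := by
      intro k
      have h0 := congrArg (grad φ) hse
      rw [grad_mul, he, zero_smul, add_zero, grad_add, grad_C_mul, grad_sum] at h0
      have h1 : ∀ l, (∑ j, φ (b j) • grad φ (g j)) l ∈ maximalIdeal Λ := fun l => by
        have h2 := congrFun h0 l
        simp only [grad_mul, Pi.add_apply, Pi.smul_apply, Finset.sum_apply, smul_eq_mul,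
          Finset.sum_add_distrib] at h2 ⊢
        have h3 : ∑ j, φ (b j) * grad φ (g j) l = φ s * grad φ e l - algebraMap R Λ π * grad φ a' l -
            ∑ j, φ (g j) * grad φ (b j) l := by rw [h2]; ring
        rw [h3]
        refine sub_mem (sub_mem (Ideal.mul_mem_left _ _ ?_) (Ideal.mul_mem_right _ _ ?_)) (Ideal.sum_mem _ fun j _ => Ideal.mul_mem_right _ _ (hgm j))
        · rw [hge]; exact hdep l
        · rw [hπΛ]; exact Ideal.mem_span_singleton_self _
      have h4 : φ (b k) = ∑ l, H k l * (∑ j, φ (b j) • grad φ (g j)) l := by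
        simp only [Finset.sum_apply, Pi.smul_apply, smul_eq_mul, Finset.mul_sum]
        rw [Finset.sum_comm]
        simp only [mul_left_comm (H k _), ← Finset.mul_sum, hHG, mul_ite, mul_one, mul_zero,
          Finset.sum_ite_eq, Finset.mem_univ, if_true]
      rw [h4]
      exact Ideal.sum_mem _ fun l _ => Ideal.mul_mem_left _ _ (h1 l)
    have ha' : φ a' ∈ maximalIdeal Λ := by
      have h0 := congrArg φ hse
      rw [map_mul, he, mul_zero, map_add, map_mul, map_sum, ← MvPolynomial.algebraMap_eq,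
        AlgHom.commutes] at h0
      choose b' hb' using fun j => hmem (hb j)
      have h1 : ϖ * (φ a' + ϖ * ∑ j, b' j * y j) = 0 := by
        rw [h0]
        simp only [map_mul, hb', hy, mul_add, Finset.mul_sum, ϖ]
        congr 1
        exact Finset.sum_congr rfl fun j _ => by ring
      have h2 := (mul_eq_zero.1 h1).resolve_left hϖ
      rw [eq_neg_of_add_eq_zero_left h2]
      exact neg_mem (Ideal.mul_mem_right _ _ (hπΛ ▸ Ideal.mem_span_singleton_self _))
    obtain ⟨sa, aa, ba, hsa, hsea⟩ := hdec a' ha'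
    choose sb ab bb hsb hseb using fun j => hdec (b j) (hb j)
    let T : MvPolynomial (Fin (n + r)) R := ψ sa * ∏ j, ψ (sb j)
    let fa := (∏ j, ψ (sb j)) * (ψ aa + ∑ i, ψ (ba i) * Y i)
    let fb := fun j => ψ sa * ((∏ k ∈ Finset.univ.erase j, ψ (sb k)) * (ψ (ab j) + ∑ i, ψ (bb j i) * Y i))
    have hfa : T * ψ a' - C π * fa ∈ J := by
      have := J.mul_mem_left (∏ j, ψ (sb j)) (hlift sa a' aa ba hsea)
      convert this using 1
      simp only [T, fa]; ring
    have hfb : ∀ j, T * ψ (b j) - C π * fb j ∈ J := fun j => by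
      have := J.mul_mem_left (ψ sa * ∏ k ∈ Finset.univ.erase j, ψ (sb k)) (hlift (sb j) (b j) (ab j) (bb j) (hseb j))
      convert this using 1
      simp only [T, fb, ← Finset.mul_prod_erase _ _ (Finset.mem_univ j)]; ring
    let f1 := ψ a' + ∑ j, ψ (b j) * Y j
    let f2 := fa + ∑ j, fb j * Y j
    have hT : T * f1 - C π * f2 ∈ J := by
      have e1 : T * f1 - C π * f2 = (T * ψ a' - C π * fa) + ∑ j, Y j * (T * ψ (b j) - C π * fb j) := by
        simp only [f1, f2, mul_add, Finset.mul_sum, mul_sub, Finset.sum_sub_distrib]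
        rw [Finset.sum_congr rfl (fun j _ => show Y j * (T * ψ (b j)) = T * (ψ (b j) * Y j) by ring),
          Finset.sum_congr rfl (fun j _ => show Y j * (C π * fb j) = C π * (fb j * Y j) by ring)]
        ring
      rw [e1]
      exact J.add_mem hfa (J.sum_mem fun j _ => J.mul_mem_left _ (hfb j))
    obtain ⟨h1, h2⟩ := hcong _ _ (hlift s e a' b hse)
    rw [map_mul, hψ, hψ, he, mul_zero, map_mul, ← MvPolynomial.algebraMap_eq, AlgHom.commutes] at h1
    have hf1 : φ' f1 = 0 := hzero _ h1.symm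
    rw [grad_mul, hψ, hψ, he, zero_smul, add_zero, grad_C_mul, map_smul, map_smul, hgψ] at h2
    obtain ⟨h3, h4⟩ := hcong _ _ hT
    rw [map_mul, hf1, mul_zero, map_mul, ← MvPolynomial.algebraMap_eq, AlgHom.commutes] at h3
    have hf2 : φ' f2 = 0 := hzero _ h3.symm
    rw [grad_mul, hf1, zero_smul, add_zero, grad_C_mul, map_smul, map_smul] at h4
    have hTu : IsUnit (φ' T) := by
      simp only [T, map_mul, map_prod, hψ]
      exact IsUnit.mul (by simpa using hsa) ((IsUnit.prod_iff).2 fun j _ => by simpa using hsb j)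
    obtain ⟨v, hv⟩ : IsUnit (φ s * φ' T) := IsUnit.mul (by simpa using hs) hTu
    refine ⟨(↑v⁻¹ : Λ) • grad φ' f2, Submodule.smul_mem _ _ (grad_mem_jac φ' hf2), ?_⟩
    rw [map_smul, smul_comm ϖ (↑v⁻¹ : Λ) (P (grad φ' f2)), smul_comm ϖ (↑v⁻¹ : Λ)]
    change _ • algebraMap R Λ π • algebraMap R Λ π • P (grad φ' f2) = _
    rw [← h4, smul_comm (algebraMap R Λ π) (φ' T), ← h2, smul_smul, smul_smul, mul_assoc,
      mul_comm (φ' T), ← hv, Units.inv_mul, one_smul]
    rfl

end Groth.Agent.NeronLib
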