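import Mathlib
import Groth.Agent.NeronLib.Blowup
import Groth.Agent.NeronLib.Smooth

/-! Néron desingularization of unramified extensions of discrete valuation rings. -/

set_option autoImplicit false
universe u

noncomputable section

namespace Groth.Agent.NeronLib

open MvPolynomial IsLocalRing

theorem formallySmooth_of_eq {R S : Type u} [CommRing R] [CommRing S] [Algebra R S] (I J : Ideal S)
    [I.IsPrime] [J.IsPrime] (h : I = J) (hI : Algebra.FormallySmooth R I.ResidueField) :
    Algebra.FormallySmooth R J.ResidueField := by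
  subst h
  exact hI

/-- Residue fields of points in a geometrically reduced extension of the fraction field. -/
theorem formallySmooth_residueField_ker_generic {R S : Type u} [CommRing R] [CommRing S] [Algebra R S]
    (K : Type u) [Field K] [Algebra R K] [IsFractionRing R K] {L : Type u} [Field L] [Algebra K L] [Algebra R L]
    [IsScalarTower R K L] [Algebra.IsGeometricallyReduced K L] (ψ : S →ₐ[R] L) :
    Algebra.FormallySmooth R (RingHom.ker ψ.toRingHom).ResidueField := by
  let κ := (RingHom.ker ψ.toRingHom).ResidueField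
  let j : κ →+* L := residueToField ψ.toRingHom
  have hj : ∀ r, j (algebraMap R κ r) = algebraMap K L (algebraMap R K r) := fun r => by
    rw [IsScalarTower.algebraMap_apply R S κ, residueToField_algebraMap, ← IsScalarTower.algebraMap_apply R K L]
    exact ψ.commutes r
  have hinj : Function.Injective (algebraMap R κ) := fun a b h =>
    IsFractionRing.injective R K ((algebraMap K L).injective (by rw [← hj, ← hj, h]))
  letI : Algebra K κ := (IsFractionRing.lift hinj : K →+* κ).toAlgebra
  haveI : IsScalarTower R K κ := IsScalarTower.of_algebraMap_eq fun r => by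
    rw [RingHom.algebraMap_toAlgebra, IsFractionRing.lift_algebraMap]
  have hjK : j.comp (algebraMap K κ) = algebraMap K L :=
    IsLocalization.ringHom_ext (nonZeroDivisors R) (RingHom.ext fun r => by
      change j (algebraMap K κ (algebraMap R K r)) = _
      rw [← IsScalarTower.algebraMap_apply R K κ, hj]
      rfl)
  haveI : Algebra.FormallySmooth K κ := by
    refine FieldExtLib.formallySmooth_of_isGeometricallyReduced ?_
    exact Algebra.IsGeometricallyReduced.of_injective
      ({ toRingHom := j, commutes' := fun c => RingHom.congr_fun hjK c } : κ →ₐ[K] L) j.injective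
  haveI : Algebra.FormallyEtale R K := .of_isLocalization (nonZeroDivisors R)
  exact Algebra.FormallySmooth.comp R K κ

/-- Néron desingularization in factorization form. -/
theorem exists_smooth_factor {R Λ : Type u} [CommRing R] [IsDomain R]
    [IsDiscreteValuationRing R] [CommRing Λ] [IsDomain Λ] [IsDiscreteValuationRing Λ] [Algebra R Λ]
    [IsLocalHom (algebraMap R Λ)]
    [Algebra.IsGeometricallyReduced (ResidueField R) (ResidueField Λ)]
    (he : (maximalIdeal R).map (algebraMap R Λ) = maximalIdeal Λ)
    (hgen : ∀ (n : ℕ) (φ : MvPolynomial (Fin n) R →ₐ[R] Λ) [(RingHom.ker φ).IsPrime],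
      Algebra.FormallySmooth R (RingHom.ker φ).ResidueField)
    {n : ℕ} (φ : MvPolynomial (Fin n) R →ₐ[R] Λ) :
    ∃ (B : Type u) (_ : CommRing B) (_ : Algebra R B), Algebra.Smooth R B ∧
      ∃ (g : MvPolynomial (Fin n) R →ₐ[R] B) (h : B →ₐ[R] Λ), h.comp g = φ ∧ ∀ x, φ x = 0 → g x = 0 := by
  induction hN : (defect (jac φ)).toNat using Nat.strong_induction_on generalizing n with
  | _ N ih =>
  obtain ⟨π, hπ⟩ := IsDiscreteValuationRing.exists_irreducible R
  have hπR : maximalIdeal R = Ideal.span {π} := hπ.maximalIdeal_eq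
  have hπΛ : maximalIdeal Λ = Ideal.span {algebraMap R Λ π} := by
    rw [← he, hπR, Ideal.map_span, Set.image_singleton]
  haveI : (RingHom.ker φ).IsPrime := RingHom.ker_isPrime _
  obtain ⟨c, f, hf, hspan, hmin⟩ := exists_minimal_gens φ
  rcases dichotomy φ f with ⟨e, hdet⟩ | ⟨a, hunit, hdep⟩
  · obtain ⟨a, hu, hsm⟩ := smooth_of_independent φ (hgen n φ) f hf hspan e hdet
    let I := RingHom.ker φ
    let l : MvPolynomial (Fin n) R ⧸ I →ₐ[R] Λ := Ideal.Quotient.liftₐ I φ (fun _ h => h)
    have hpow : ∀ y : Submonoid.powers a, IsUnit (l y) := by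
      rintro ⟨_, k, rfl⟩
      change IsUnit (l (a ^ k))
      rw [map_pow]
      exact hu.pow k
    refine ⟨Localization.Away a, inferInstance, inferInstance, hsm,
      (IsScalarTower.toAlgHom R (MvPolynomial (Fin n) R ⧸ I) (Localization.Away a)).comp (Ideal.Quotient.mkₐ R I),
      IsLocalization.liftAlgHom (M := Submonoid.powers a) hpow, AlgHom.ext fun x => ?_, fun x hx => ?_⟩
    · exact IsLocalization.lift_eq hpow _
    · change algebraMap _ (Localization.Away a) (Ideal.Quotient.mk I x) = 0
      rw [Ideal.Quotient.eq_zero_iff_mem.2 hx, map_zero]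
  · obtain ⟨n', φ', ψ, hcomp, hlt⟩ := exists_blowup π hπR hπΛ φ f hf hspan hmin a hunit hdep
    have hlt' : (defect (jac φ')).toNat < N := by
      rw [← hN]
      rw [← ENat.coe_lt_coe, ENat.coe_toNat (defect_ne_top _), ENat.coe_toNat (defect_ne_top _)]
      exact hlt
    obtain ⟨B, i1, i2, hB, g, h, hgh, hker⟩ := ih _ hlt' φ' rfl
    refine ⟨B, i1, i2, hB, g.comp ψ, h, by rw [← AlgHom.comp_assoc, hgh, hcomp], fun x hx => hker _ ?_⟩
    exact (AlgHom.congr_fun hcomp x).trans hx

end Groth.Agent.NeronLib
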